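import Mathlib
import Groth.Agent.HopfSt.Pts
import Groth.Prelude.Def_W4c1tameactTame

/-!
# The twisted pullbacks of an equivariant module

A module with a compatible coaction gives, functorially in the pairs `(T, x)` of a scheme and a point of `Spec B`, the
modules `Γ(T) ⊗_B M`, along the morphisms `(c, g)` with `c ≫ x = x' · g`.
-/

universe u

open CategoryTheory MonoidalCategory CartesianMonoidalCategory AlgebraicGeometry Opposite
open scoped TensorProduct MonObj

set_option autoImplicit false
set_option backward.isDefEq.respectTransparency false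
set_option backward.isDefEq.respectTransparency.types false
set_option linter.style.haveILetI false

noncomputable section

namespace Groth.Agent.HopfSt

variable {R : Type u} [CommRing R] {A : Type u} [CommRing A] [HopfAlgebra R A] {B : Type u} [CommRing B] [Algebra R B]
  {T T' T'' : Over (Spec (CommRingCat.of R))}

/-- Global functions as an algebra over the ring of the point. -/
def Al (_x : T ⟶ CoactBr.sp R B) : Type u := Γ(T.left, ⊤)

instance (x : T ⟶ CoactBr.sp R B) : CommRing (Al x) := inferInstanceAs (CommRing Γ(T.left, ⊤))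

instance (x : T ⟶ CoactBr.sp R B) : Algebra B (Al x) := (show B →+* Al x from ev x).toAlgebra

theorem Al.algebraMap_apply (x : T ⟶ CoactBr.sp R B) (b : B) : algebraMap B (Al x) b = ev x b := rfl

/-- The pullback of a module along a point. -/
abbrev MT (M : Type u) [AddCommGroup M] [Module B M] (x : T ⟶ CoactBr.sp R B) : Type u := Al x ⊗[B] M

variable (M : Type u) [AddCommGroup M] [Module B M]

/-- A pure tensor. -/
abbrev tm (x : T ⟶ CoactBr.sp R B) (k : Γ(T.left, ⊤)) (s : M) : MT M x := (show Al x from k) ⊗ₜ[B] s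

variable {M}

theorem tm_add_left (x : T ⟶ CoactBr.sp R B) (k k' : Γ(T.left, ⊤)) (s : M) :
    tm M x (k + k') s = tm M x k s + tm M x k' s := TensorProduct.add_tmul _ _ _

theorem smul_tm (x : T ⟶ CoactBr.sp R B) (k k' : Γ(T.left, ⊤)) (s : M) :
    (show Al x from k) • tm M x k' s = tm M x (k * k') s := rfl

theorem tm_balance (x : T ⟶ CoactBr.sp R B) (k : Γ(T.left, ⊤)) (b : B) (s : M) :
    tm M x k (b • s) = tm M x (ev x b * k) s := by
  show (show Al x from k) ⊗ₜ[B] (b • s) = _
  rw [TensorProduct.tmul_smul, TensorProduct.smul_tmul', Algebra.smul_def]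
  rfl

variable [Module R M] [IsScalarTower R B M]

theorem tm_balanceR (x : T ⟶ CoactBr.sp R B) (k : Γ(T.left, ⊤)) (r : R) (s : M) :
    tm M x k (r • s) = tm M x (str T r * k) s := by
  rw [← algebraMap_smul B r s, tm_balance, ev_algebraMap]

theorem ev_smulA (x : T ⟶ CoactBr.sp R B) (g : T ⟶ CoactBr.sp R A) (r : R) (a : A) :
    ev g (r • a) = str T r * ev g a := by
  rw [Algebra.smul_def, map_mul, ev_algebraMap]

/-- The evaluation of a tensor with the coordinate ring of the group at a pair of points. -/
def psi (x : T ⟶ CoactBr.sp R B) (g : T ⟶ CoactBr.sp R A) : M ⊗[R] A →+ MT M x :=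
  TensorProduct.liftAddHom
    (AddMonoidHom.mk' (fun t => AddMonoidHom.mk' (fun a => tm M x (ev g a) t)
        fun a a' => by rw [map_add, tm_add_left])
      fun t t' => AddMonoidHom.ext fun a => TensorProduct.tmul_add _ t t')
    fun r t a => by
      show tm M x (ev g a) (r • t) = tm M x (ev g (r • a)) t
      rw [tm_balanceR, ev_smulA x g]

@[simp] theorem psi_tmul (x : T ⟶ CoactBr.sp R B) (g : T ⟶ CoactBr.sp R A) (t : M) (a : A) :
    psi x g (t ⊗ₜ[R] a) = tm M x (ev g a) t := rfl

/-- The evaluation of a tensor with two copies of the coordinate ring at a pair of points. -/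
def psiTwo (x : T ⟶ CoactBr.sp R B) (g g' : T ⟶ CoactBr.sp R A) : M ⊗[R] (A ⊗[R] A) →+ MT M x :=
  TensorProduct.liftAddHom
    (AddMonoidHom.mk' (fun t => AddMonoidHom.mk' (fun a => tm M x (ev (pair g g') a) t)
        fun a a' => by rw [map_add, tm_add_left])
      fun t t' => AddMonoidHom.ext fun a => TensorProduct.tmul_add _ t t')
    fun r t a => by
      show tm M x (ev (pair g g') a) (r • t) = tm M x (ev (pair g g') (r • a)) t
      rw [tm_balanceR, Algebra.smul_def r a, map_mul, ev_algebraMap]

@[simp] theorem psiTwo_tmul (x : T ⟶ CoactBr.sp R B) (g g' : T ⟶ CoactBr.sp R A) (t : M) (a : A ⊗[R] A) :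
    psiTwo x g g' (t ⊗ₜ[R] a) = tm M x (ev (pair g g') a) t := rfl

theorem psi_hmSMul (x : T ⟶ CoactBr.sp R B) (g : T ⟶ CoactBr.sp R A) (w : B ⊗[R] A) (z : M ⊗[R] A) :
    psi x g (TameAct.hmSMul R A B M w z) = (show Al x from ev (pair x g) w) • psi x g z := by
  induction w using TensorProduct.induction_on with
  | zero => simp only [map_zero, LinearMap.zero_apply]; exact (zero_smul _ _).symm
  | add w w' hw hw' =>
    simp only [map_add, LinearMap.add_apply, hw, hw']
    exact (add_smul _ _ _).symm
  | tmul b a =>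
    induction z using TensorProduct.induction_on with
    | zero => simp only [map_zero, smul_zero]
    | add z z' hz hz' => simp only [map_add, hz, hz', smul_add]
    | tmul t a' =>
      rw [TameAct.hmSMul_tmul, psi_tmul, psi_tmul, smul_tm, ev_pair, tm_balance, map_mul, mul_assoc]

variable [HopfRep.Comod R A M]

/-- The translation of a section. -/
def th (x : T ⟶ CoactBr.sp R B) (g : T ⟶ CoactBr.sp R A) : M →+ MT M x :=
  (psi x g).comp (HopfRep.Comod.coact (k := R) (A := A) : M →ₗ[R] M ⊗[R] A).toAddMonoidHom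

variable [HopfRep.Comod R A B] [GLin.IsCoactAlg R A B] [TameAct.IsHopfMod R A B M]

theorem th_smul (x : T ⟶ CoactBr.sp R B) (g : T ⟶ CoactBr.sp R A) (b : B) (s : M) :
    th x g (b • s) = (show Al x from ev (dot x g) b) • th x g s := by
  show psi x g (HopfRep.Comod.coact (k := R) (A := A) (b • s)) = _
  rw [TameAct.IsHopfMod.coact_smul, psi_hmSMul, ev_dot]
  rfl

variable (M) in
/-- The twisted pullback along `(c, g)`. -/
def tw {x : T ⟶ CoactBr.sp R B} {x' : T' ⟶ CoactBr.sp R B} (c : T' ⟶ T) (g : T' ⟶ CoactBr.sp R A)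
    (h : c ≫ x = dot x' g) : MT M x →+ MT M x' :=
  TensorProduct.liftAddHom
    (AddMonoidHom.mk' (fun k => AddMonoidHom.mk'
        (fun s => (show Al x' from c.left.appTop.hom k) • th x' g s)
        fun s s' => by rw [map_add, smul_add])
      fun k k' => AddMonoidHom.ext fun s => by
        show (show Al x' from c.left.appTop.hom (k + k')) • th x' g s = _ + _
        rw [map_add]
        exact add_smul _ _ _)
    fun b k s => by
      show (show Al x' from c.left.appTop.hom (ev x b * (show Γ(T.left, ⊤) from k))) • th x' g s =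
        (show Al x' from c.left.appTop.hom k) • th x' g (b • s)
      rw [th_smul, smul_smul, ← h, ev_comp, map_mul]
      exact congrArg (· • th x' g s) (mul_comm _ _)

variable {x : T ⟶ CoactBr.sp R B} {x' : T' ⟶ CoactBr.sp R B} {x'' : T'' ⟶ CoactBr.sp R B}

theorem tw_tm (c : T' ⟶ T) (g : T' ⟶ CoactBr.sp R A) (h : c ≫ x = dot x' g) (k : Γ(T.left, ⊤)) (s : M) :
    tw M c g h (tm M x k s) = (show Al x' from c.left.appTop.hom k) • th x' g s := rfl

theorem tw_smul (c : T' ⟶ T) (g : T' ⟶ CoactBr.sp R A) (h : c ≫ x = dot x' g) (k : Γ(T.left, ⊤)) (z : MT M x) :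
    tw M c g h ((show Al x from k) • z) = (show Al x' from c.left.appTop.hom k) • tw M c g h z := by
  induction z using TensorProduct.induction_on with
  | zero => rw [smul_zero, map_zero, smul_zero]
  | add z z' hz hz' => rw [smul_add, map_add, map_add, hz, hz', smul_add]
  | tmul k' s =>
    show tw M c g h ((show Al x from k) • tm M x k' s) = _
    rw [smul_tm, tw_tm, map_mul]
    show _ = _ • tw M c g h (tm M x k' s)
    rw [tw_tm, smul_smul]

theorem tw_congr {c c' : T' ⟶ T} {g g' : T' ⟶ CoactBr.sp R A} (hc : c = c') (hg : g = g')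
    (h : c ≫ x = dot x' g) (h' : c' ≫ x = dot x' g') (z : MT M x) : tw M c g h z = tw M c' g' h' z := by
  subst hc hg; rfl

theorem dot_comp {c : T' ⟶ T} {g : T' ⟶ CoactBr.sp R A} (h : c ≫ x = dot x' g) {c' : T'' ⟶ T'}
    {g' : T'' ⟶ CoactBr.sp R A} (h' : c' ≫ x' = dot x'' g') : (c' ≫ c) ≫ x = dot x'' (g' * (c' ≫ g)) := by
  rw [Category.assoc, h, comp_dot, h', dot_dot]

/-- The value of the twisted pullback on the evaluation of a tensor. -/
theorem tw_psi {c' : T'' ⟶ T'} {g' : T'' ⟶ CoactBr.sp R A} (h' : c' ≫ x' = dot x'' g') (g : T' ⟶ CoactBr.sp R A)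
    (z : M ⊗[R] A) :
    tw M c' g' h' (psi x' g z) = psiTwo x'' g' (c' ≫ g)
      (TensorProduct.assoc R M A A ((HopfRep.Comod.coact (k := R) (A := A) : M →ₗ[R] M ⊗[R] A).rTensor A z)) := by
  induction z using TensorProduct.induction_on with
  | zero => simp only [map_zero]
  | add z z' hz hz' => simp only [map_add, hz, hz']
  | tmul t a =>
    rw [psi_tmul, tw_tm, LinearMap.rTensor_tmul]
    show _ • psi x'' g' (HopfRep.Comod.coact (k := R) (A := A) t) = _
    generalize HopfRep.Comod.coact (k := R) (A := A) t = w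
    induction w using TensorProduct.induction_on with
    | zero => simp only [map_zero, smul_zero, TensorProduct.zero_tmul]
    | add w w' hw hw' => simp only [map_add, TensorProduct.add_tmul, smul_add, hw, hw']
    | tmul t' a' =>
      rw [psi_tmul, smul_tm, TensorProduct.assoc_tmul, psiTwo_tmul, ev_pair, ev_comp, mul_comm]

theorem tw_comp {c : T' ⟶ T} {g : T' ⟶ CoactBr.sp R A} (h : c ≫ x = dot x' g) {c' : T'' ⟶ T'}
    {g' : T'' ⟶ CoactBr.sp R A} (h' : c' ≫ x' = dot x'' g') (z : MT M x) :
    tw M c' g' h' (tw M c g h z) = tw M (c' ≫ c) (g' * (c' ≫ g)) (dot_comp h h') z := by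
  induction z using TensorProduct.induction_on with
  | zero => simp only [map_zero]
  | add z z' hz hz' => simp only [map_add, hz, hz']
  | tmul k s =>
    show tw M c' g' h' (tw M c g h (tm M x k s)) = tw M _ _ _ (tm M x k s)
    rw [tw_tm, tw_smul, tw_tm, Over.comp_left, Scheme.Hom.comp_appTop]
    refine congrArg _ ?_
    show tw M c' g' h' (psi x' g (HopfRep.Comod.coact (k := R) (A := A) s)) = _
    rw [tw_psi h' g]
    show _ = psi x'' (g' * (c' ≫ g)) (HopfRep.Comod.coact (k := R) (A := A) s)
    have hco := LinearMap.congr_fun (HopfRep.Comod.coassoc (k := R) (A := A) (V := M)) s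
    simp only [LinearMap.comp_apply, LinearEquiv.coe_coe] at hco
    rw [hco]
    generalize HopfRep.Comod.coact (k := R) (A := A) s = w
    induction w using TensorProduct.induction_on with
    | zero => simp only [map_zero]
    | add w w' hw hw' => simp only [map_add, hw, hw']
    | tmul t a => rw [LinearMap.lTensor_tmul, psiTwo_tmul, psi_tmul, ev_mul]

theorem tw_id (h : 𝟙 T ≫ x = dot x (1 : T ⟶ CoactBr.sp R A)) (z : MT M x) : tw M (𝟙 T) 1 h z = z := by
  induction z using TensorProduct.induction_on with
  | zero => simp only [map_zero]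
  | add z z' hz hz' => simp only [map_add, hz, hz']
  | tmul k s =>
    show tw M _ _ _ (tm M x k s) = tm M x k s
    rw [tw_tm]
    have hco := LinearMap.congr_fun (HopfRep.Comod.counit_comp (k := R) (A := A) (V := M)) s
    have key : ∀ w : M ⊗[R] A, psi x (1 : T ⟶ CoactBr.sp R A) w =
        tm M x 1 (TensorProduct.rid R M ((CoalgebraStruct.counit (R := R) (A := A)).lTensor M w)) := by
      intro w
      induction w using TensorProduct.induction_on with
      | zero => simp only [map_zero]; exact (TensorProduct.tmul_zero _ _).symm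
      | add w w' hw hw' => simp only [map_add, hw, hw']; exact (TensorProduct.tmul_add _ _ _).symm
      | tmul t a => rw [psi_tmul, ev_one x, LinearMap.lTensor_tmul, TensorProduct.rid_tmul, tm_balanceR, mul_one]
    show (show Al x from _) • psi x (1 : T ⟶ CoactBr.sp R A) (HopfRep.Comod.coact (k := R) (A := A) s) = _
    rw [key]
    simp only [LinearMap.comp_apply] at hco
    rw [hco, LinearMap.flip_apply, TensorProduct.mk_apply, TensorProduct.rid_tmul, one_smul, smul_tm, mul_one]
    rfl

/-- An invariant gives a section fixed by all twisted pullbacks. -/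
theorem tw_fixed (c : T' ⟶ T) (g : T' ⟶ CoactBr.sp R A) (h : c ≫ x = dot x' g) {n : M}
    (hn : n ∈ HopfRep.fixedPts R A M) : tw M c g h (tm M x 1 n) = tm M x' 1 n := by
  rw [tw_tm, map_one]
  show (show Al x' from 1) • psi x' g (HopfRep.Comod.coact (k := R) (A := A) n) = _
  rw [show HopfRep.Comod.coact (k := R) (A := A) n = n ⊗ₜ[R] (1 : A) from hn, psi_tmul, smul_tm, map_one, mul_one]

end Groth.Agent.HopfSt
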