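import Mathlib
import Groth.Agent.HopfSt.Twist

/-!
# Twisted pullbacks as modules over a base, and their base change along affine cartesian squares
-/

universe u

open CategoryTheory CategoryTheory.Limits MonoidalCategory CartesianMonoidalCategory AlgebraicGeometry Opposite
open scoped TensorProduct MonObj

set_option autoImplicit false
set_option backward.isDefEq.respectTransparency false
set_option backward.isDefEq.respectTransparency.types false
set_option linter.style.haveILetI false
set_option linter.unusedSectionVars false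

noncomputable section

namespace Groth.Agent.HopfSt

variable {R : Type u} [CommRing R] {A : Type u} [CommRing A] [HopfAlgebra R A] {B : Type u} [CommRing B] [Algebra R B]
  [HopfRep.Comod R A B] [GLin.IsCoactAlg R A B]
  {T T' U U' : Over (Spec (CommRingCat.of R))}
  {M : Type u} [AddCommGroup M] [Module B M] [Module R M] [IsScalarTower R B M] [HopfRep.Comod R A M]
  [TameAct.IsHopfMod R A B M]

variable (M) in
/-- The pullback along a point, as a module over the global functions of a base. -/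
def Sc (_q : T ⟶ U) (x : T ⟶ CoactBr.sp R B) : Type u := MT M x

instance (q : T ⟶ U) (x : T ⟶ CoactBr.sp R B) : AddCommGroup (Sc M q x) :=
  inferInstanceAs (AddCommGroup (MT M x))

instance (q : T ⟶ U) (x : T ⟶ CoactBr.sp R B) : Module Γ(U.left, ⊤) (Sc M q x) :=
  Module.compHom (MT M x) (show Γ(U.left, ⊤) →+* Al x from q.left.appTop.hom)

theorem Sc.smul_def (q : T ⟶ U) (x : T ⟶ CoactBr.sp R B) (r : Γ(U.left, ⊤)) (z : Sc M q x) :
    r • z = (show Sc M q x from (show Al x from q.left.appTop.hom r) • (show MT M x from z)) := rfl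

theorem appTop_comm {c : T' ⟶ T} {q : T ⟶ U} {q' : T' ⟶ U'} {b : U' ⟶ U} (hb : c ≫ q = q' ≫ b)
    (r : Γ(U.left, ⊤)) : c.left.appTop.hom (q.left.appTop.hom r) = q'.left.appTop.hom (b.left.appTop.hom r) := by
  have h := congrArg (fun k : T' ⟶ U => k.left.appTop.hom r) hb
  simpa [Scheme.Hom.comp_appTop] using h

/-- A twisted pullback between modules over bases. -/
def scTw {x : T ⟶ CoactBr.sp R B} {x' : T' ⟶ CoactBr.sp R B} (q : T ⟶ U) (q' : T' ⟶ U') (c : T' ⟶ T)
    (g : T' ⟶ CoactBr.sp R A) (h : c ≫ x = dot x' g) : Sc M q x →+ Sc M q' x' :=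
  tw M c g h

theorem scTw_smul {x : T ⟶ CoactBr.sp R B} {x' : T' ⟶ CoactBr.sp R B} {q : T ⟶ U} {q' : T' ⟶ U'} {c : T' ⟶ T}
    {g : T' ⟶ CoactBr.sp R A} {h : c ≫ x = dot x' g} {b : U' ⟶ U} (hb : c ≫ q = q' ≫ b)
    (r : Γ(U.left, ⊤)) (z : Sc M q x) :
    scTw q q' c g h (r • z) = b.left.appTop.hom r • scTw q q' c g h z :=
  (tw_smul c g h (q.left.appTop.hom r) z).trans
    (congrArg (fun k : Γ(T'.left, ⊤) => (show Al x' from k) • tw M c g h z) (appTop_comm hb r))

theorem th_one (x : T ⟶ CoactBr.sp R B) (s : M) : th x (1 : T ⟶ CoactBr.sp R A) s = tm M x 1 s := by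
  have h : 𝟙 T ≫ x = dot x (1 : T ⟶ CoactBr.sp R A) := by rw [dot_one, Category.id_comp]
  have e := tw_id (M := M) h (tm M x 1 s)
  rwa [tw_tm, map_one, show (show Al x from (1 : Γ(T.left, ⊤))) = (1 : Al x) from rfl, one_smul] at e

theorem tw_tm_one {x : T ⟶ CoactBr.sp R B} {x' : T' ⟶ CoactBr.sp R B} (c : T' ⟶ T)
    (h : c ≫ x = dot x' (1 : T' ⟶ CoactBr.sp R A)) (k : Γ(T.left, ⊤)) (s : M) :
    tw M c 1 h (tm M x k s) = tm M x' (c.left.appTop.hom k) s := by
  rw [tw_tm, th_one, smul_tm, _root_.mul_one]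

section BaseChange

variable {x : T ⟶ CoactBr.sp R B} {x' : T' ⟶ CoactBr.sp R B} {q : T ⟶ U} {q' : T' ⟶ U'} {c : T' ⟶ T}
  {b : U' ⟶ U}

/-- Untwisted pullbacks along affine cartesian squares are base changes. -/
theorem exists_bc_equiv [IsAffine T.left] [IsAffine U.left] [IsAffine U'.left]
    (sq : IsPullback c.left q'.left q.left b.left) (h : c ≫ x = dot x' (1 : T' ⟶ CoactBr.sp R A)) :
    letI := b.left.appTop.hom.toAlgebra
    ∃ κ : Γ(U'.left, ⊤) ⊗[Γ(U.left, ⊤)] Sc M q x →+ Sc M q' x', Function.Bijective κ ∧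
      ∀ β z, κ (β ⊗ₜ z) = β • scTw q q' c 1 h z := by
  letI := b.left.appTop.hom.toAlgebra
  letI : Algebra Γ(U.left, ⊤) Γ(T.left, ⊤) := q.left.appTop.hom.toAlgebra
  letI : Algebra Γ(U'.left, ⊤) Γ(T'.left, ⊤) := q'.left.appTop.hom.toAlgebra
  letI : Algebra Γ(T.left, ⊤) Γ(T'.left, ⊤) := c.left.appTop.hom.toAlgebra
  letI : Algebra Γ(U.left, ⊤) Γ(T'.left, ⊤) := (q'.left.appTop.hom.comp b.left.appTop.hom).toAlgebra
  have hb : c ≫ q = q' ≫ b := Over.OverMorphism.ext sq.w
  haveI : IsScalarTower Γ(U.left, ⊤) Γ(U'.left, ⊤) Γ(T'.left, ⊤) := IsScalarTower.of_algebraMap_eq fun _ => rfl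
  haveI : IsScalarTower Γ(U.left, ⊤) Γ(T.left, ⊤) Γ(T'.left, ⊤) :=
    IsScalarTower.of_algebraMap_eq fun r => (appTop_comm hb r).symm
  haveI : Algebra.IsPushout Γ(U.left, ⊤) Γ(U'.left, ⊤) Γ(T.left, ⊤) Γ(T'.left, ⊤) :=
    CommRingCat.isPushout_iff_isPushout.mp (isPushout_appTop_of_isPullback sq).flip
  let e := Algebra.IsPushout.equiv Γ(U.left, ⊤) Γ(U'.left, ⊤) Γ(T.left, ⊤) Γ(T'.left, ⊤)
  have he : ∀ β k, e (β ⊗ₜ k) = q'.left.appTop.hom β * c.left.appTop.hom k := fun β k => by
    rw [Algebra.IsPushout.equiv_tmul]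
    rfl
  let κ : Γ(U'.left, ⊤) ⊗[Γ(U.left, ⊤)] Sc M q x →+ Sc M q' x' :=
    TensorProduct.liftAddHom
      (AddMonoidHom.mk' (fun β => AddMonoidHom.mk' (fun z => β • scTw q q' c 1 h z)
          fun z z' => by rw [map_add, smul_add])
        fun β β' => AddMonoidHom.ext fun z => add_smul β β' _)
      fun r β z => by
        show (b.left.appTop.hom r * β) • scTw q q' c 1 h z = β • scTw q q' c 1 h (r • z)
        rw [scTw_smul hb, smul_smul, mul_comm]
  have hκ : ∀ β k s, κ (β ⊗ₜ (show Sc M q x from tm M x k s)) = (show Sc M q' x' from tm M x' (e (β ⊗ₜ k)) s) :=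
    fun β k s => by
      show β • scTw q q' c 1 h (show Sc M q x from tm M x k s) = _
      show (show Sc M q' x' from (show Al x' from q'.left.appTop.hom β) • tw M c 1 h (tm M x k s)) = _
      rw [tw_tm_one, smul_tm, he]
  -- the inverse
  let l : M → Γ(T.left, ⊤) →ₗ[Γ(U.left, ⊤)] Sc M q x := fun s =>
    { toFun := fun k => tm M x k s
      map_add' := fun k k' => tm_add_left x k k' s
      map_smul' := fun r k => (smul_tm (M := M) x (q.left.appTop.hom r) k s).symm }
  let ξ : Γ(T'.left, ⊤) → M → Γ(U'.left, ⊤) ⊗[Γ(U.left, ⊤)] Sc M q x := fun k' s =>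
    (l s).lTensor Γ(U'.left, ⊤) (e.symm k')
  have hl : ∀ s s', l (s + s') = l s + l s' := fun s s' =>
    LinearMap.ext fun k => TensorProduct.tmul_add (show Al x from k) s s'
  have hξb : ∀ (a : B) k' s, ξ (ev x' a * k') s = ξ k' (a • s) := by
    intro a k' s
    have ha : ev x' a = c.left.appTop.hom (ev x a) := by rw [← ev_comp, h, dot_one]
    obtain ⟨w, rfl⟩ := e.surjective k'
    have hmul : ev x' a * e w = e ((1 ⊗ₜ ev x a) * w) := by
      rw [map_mul, he, map_one, _root_.one_mul, ha]
    rw [hmul]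
    clear hmul
    show (l s).lTensor _ (e.symm (e ((1 ⊗ₜ ev x a) * w))) = (l (a • s)).lTensor _ (e.symm (e w))
    rw [AlgEquiv.symm_apply_apply, AlgEquiv.symm_apply_apply]
    induction w using TensorProduct.induction_on with
    | zero => simp only [MulZeroClass.mul_zero, map_zero]
    | add w w' hw hw' => simp only [mul_add, map_add, hw, hw']
    | tmul β k =>
      rw [Algebra.TensorProduct.tmul_mul_tmul, _root_.one_mul, LinearMap.lTensor_tmul, LinearMap.lTensor_tmul]
      exact congrArg (β ⊗ₜ[Γ(U.left, ⊤)] ·) (tm_balance x k a s).symm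
  let Ξ : MT M x' →+ Γ(U'.left, ⊤) ⊗[Γ(U.left, ⊤)] Sc M q x :=
    TensorProduct.liftAddHom
      (AddMonoidHom.mk' (fun k' => AddMonoidHom.mk' (ξ k') fun s s' => by
          show (l (s + s')).lTensor _ _ = (l s).lTensor _ _ + (l s').lTensor _ _
          rw [hl, LinearMap.lTensor_add, LinearMap.add_apply])
        fun k k' => AddMonoidHom.ext fun s => by
          show (l s).lTensor _ (e.symm (show Γ(T'.left, ⊤) from k + k')) = _
          exact (congrArg _ (map_add e.symm (show Γ(T'.left, ⊤) from k) (show Γ(T'.left, ⊤) from k'))).trans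
            (map_add _ _ _))
      fun a k' s => hξb a k' s
  refine ⟨κ, ⟨?_, ?_⟩, fun _ _ => rfl⟩
  · refine Function.LeftInverse.injective (g := fun z => Ξ (show MT M x' from z)) fun w => ?_
    induction w using TensorProduct.induction_on with
    | zero => simp only [map_zero]
    | add w w' hw hw' =>
      show Ξ (κ (w + w')) = _
      rw [map_add]
      exact (map_add Ξ _ _).trans (congrArg₂ (· + ·) hw hw')
    | tmul β z =>
      show Ξ (κ (β ⊗ₜ z)) = _
      induction z using TensorProduct.induction_on with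
      | zero =>
        show Ξ (κ (β ⊗ₜ (0 : Sc M q x))) = β ⊗ₜ (0 : Sc M q x)
        rw [TensorProduct.tmul_zero, map_zero]
        exact map_zero Ξ
      | add z z' hz hz' =>
        show Ξ (κ (β ⊗ₜ ((show Sc M q x from z) + (show Sc M q x from z')))) =
          β ⊗ₜ ((show Sc M q x from z) + (show Sc M q x from z'))
        rw [TensorProduct.tmul_add, map_add]
        exact (map_add Ξ _ _).trans (congrArg₂ (· + ·) hz hz')
      | tmul k s =>
        refine (congrArg Ξ (hκ β k s)).trans ?_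
        show (l s).lTensor _ (e.symm (e (β ⊗ₜ (show Γ(T.left, ⊤) from k)))) = _
        rw [AlgEquiv.symm_apply_apply]
        rfl
  · intro z
    induction z using TensorProduct.induction_on with
    | zero => exact ⟨0, map_zero κ⟩
    | add z z' hz hz' =>
      obtain ⟨w, hw⟩ := hz
      obtain ⟨w', hw'⟩ := hz'
      exact ⟨w + w', (map_add κ w w').trans (congrArg₂ (fun a a' : Sc M q' x' => a + a') hw hw')⟩
    | tmul k' s =>
      refine ⟨ξ k' s, ?_⟩
      obtain ⟨w, hw⟩ := e.surjective (show Γ(T'.left, ⊤) from k')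
      show κ ((l s).lTensor _ (e.symm (show Γ(T'.left, ⊤) from k'))) = _
      rw [← hw, AlgEquiv.symm_apply_apply]
      clear hw
      induction w using TensorProduct.induction_on with
      | zero =>
        rw [map_zero, map_zero, map_zero]
        exact (TensorProduct.zero_tmul _ _).symm
      | add w w' hw hw' =>
        rw [map_add, map_add, map_add, hw, hw']
        exact (tm_add_left x' _ _ s).symm
      | tmul β k =>
        rw [LinearMap.lTensor_tmul]
        exact hκ β k s

end BaseChange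

end Groth.Agent.HopfSt
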