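import Mathlib
import Groth.Agent.HopfSt.Scal

/-!
# Twisted pullbacks over affine coordinate schemes, read on the module
-/

universe u

open CategoryTheory MonoidalCategory CartesianMonoidalCategory AlgebraicGeometry Opposite
open scoped TensorProduct MonObj

set_option autoImplicit false
set_option backward.isDefEq.respectTransparency false
set_option backward.isDefEq.respectTransparency.types false
set_option linter.style.haveILetI false
set_option linter.unusedSectionVars false

noncomputable section

namespace Groth.Agent.HopfSt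

variable {R : Type u} [CommRing R] {A : Type u} [CommRing A] [HopfAlgebra R A] {B : Type u} [CommRing B] [Algebra R B]
  {T : Over (Spec (CommRingCat.of R))}
  {M N : Type u} [AddCommGroup M] [Module B M] [AddCommGroup N] [Module B N]

/-- Functoriality in the module. -/
def mapMT (f : M →ₗ[B] N) (x : T ⟶ CoactBr.sp R B) : MT M x →ₗ[Al x] MT N x := f.baseChange (Al x)

theorem mapMT_tm (f : M →ₗ[B] N) (x : T ⟶ CoactBr.sp R B) (k : Γ(T.left, ⊤)) (s : M) :
    mapMT f x (tm M x k s) = tm N x k (f s) := rfl

/-- The isomorphism of global functions on an affine scheme with its ring. -/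
abbrev gl (K : Type u) [CommRing K] [Algebra R K] : Γ((CoactBr.sp R K).left, ⊤) →+* K :=
  (Scheme.ΓSpecIso (CommRingCat.of K)).hom.hom

theorem gl_ev_id {K : Type u} [CommRing K] [Algebra R K] (b : K) : gl K (ev (𝟙 (CoactBr.sp R K)) b) = b := by
  rw [ev_id]
  exact congrArg (fun k : CommRingCat.of K ⟶ CommRingCat.of K => k.hom b) (Scheme.ΓSpecIso (CommRingCat.of K)).inv_hom_id

theorem ev_id_gl {K : Type u} [CommRing K] [Algebra R K] (k : Γ((CoactBr.sp R K).left, ⊤)) :
    ev (𝟙 (CoactBr.sp R K)) (gl K k) = k := by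
  rw [ev_id]
  exact congrArg (fun c : Γ(Spec (CommRingCat.of K), ⊤) ⟶ Γ(Spec (CommRingCat.of K), ⊤) => c.hom k)
    (Scheme.ΓSpecIso (CommRingCat.of K)).hom_inv_id

theorem gl_ev_pt {K : Type u} [CommRing K] [Algebra R K] (φ : B →ₐ[R] K) (b : B) :
    gl K (ev (CoactBr.pt φ) b) = φ b := by
  have h := ev_pt (𝟙 (CoactBr.sp R K)) φ b
  rw [Category.id_comp] at h
  rw [h, gl_ev_id]

variable [Module R M] [IsScalarTower R B M]

/-- The value at the identity point. -/
def atId : MT M (𝟙 (CoactBr.sp R B)) →+ M :=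
  TensorProduct.liftAddHom
    (AddMonoidHom.mk' (fun k => AddMonoidHom.mk' (fun s => gl (R := R) B k • s) fun s s' => smul_add _ s s')
      fun k k' => AddMonoidHom.ext fun s => by
        show gl (R := R) B _ • s = _ + _
        exact (congrArg (· • s) (map_add (gl (R := R) B) _ _)).trans (add_smul _ _ _))
    fun b k s => by
      show gl (R := R) B (ev (𝟙 (CoactBr.sp R B)) b * (show Γ((CoactBr.sp R B).left, ⊤) from k)) • s =
        gl (R := R) B k • b • s
      rw [map_mul, gl_ev_id, smul_smul]
      exact congrArg (· • s) (mul_comm _ _)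

theorem atId_tm (k : Γ((CoactBr.sp R B).left, ⊤)) (s : M) :
    atId (tm M (𝟙 (CoactBr.sp R B)) k s) = gl (R := R) B k • s := rfl

theorem atId_one (s : M) : atId (tm M (𝟙 (CoactBr.sp R B)) 1 s) = s := by
  rw [atId_tm, map_one, one_smul]

theorem tm_atId (z : MT M (𝟙 (CoactBr.sp R B))) : tm M (𝟙 (CoactBr.sp R B)) 1 (atId z) = z := by
  induction z using TensorProduct.induction_on with
  | zero => rw [map_zero]; exact TensorProduct.tmul_zero _ _
  | add z z' hz hz' =>
    rw [map_add]
    exact (TensorProduct.tmul_add _ _ _).trans (congrArg₂ (· + ·) hz hz')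
  | tmul k s =>
    show tm M _ 1 (atId (tm M _ k s)) = tm M _ k s
    rw [atId_tm, tm_balance, ev_id_gl, _root_.mul_one]

/-- The value at the pair of coordinate points. -/
def atPair : MT M (CoactBr.pt (Algebra.TensorProduct.includeLeft : B →ₐ[R] B ⊗[R] A)) →+ M ⊗[R] A :=
  TensorProduct.liftAddHom
    (AddMonoidHom.mk' (fun k => AddMonoidHom.mk'
        (fun s => TameAct.hmSMul R A B M (gl (B ⊗[R] A) k) (s ⊗ₜ[R] (1 : A)))
        fun s s' => by rw [TensorProduct.add_tmul, map_add])
      fun k k' => AddMonoidHom.ext fun s => by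
        show TameAct.hmSMul R A B M (gl (B ⊗[R] A) _) (s ⊗ₜ[R] (1 : A)) = _ + _
        exact (congrArg (fun t => TameAct.hmSMul R A B M t (s ⊗ₜ[R] (1 : A))) (map_add (gl (B ⊗[R] A)) _ _)).trans
          (by rw [map_add]; rfl))
    fun b k s => by
      let p := CoactBr.pt (Algebra.TensorProduct.includeLeft : B →ₐ[R] B ⊗[R] A)
      show TameAct.hmSMul R A B M
          (gl (B ⊗[R] A) (ev p b * (show Γ((CoactBr.sp R (B ⊗[R] A)).left, ⊤) from k))) (s ⊗ₜ[R] (1 : A)) =
        TameAct.hmSMul R A B M (gl (B ⊗[R] A) k) ((b • s) ⊗ₜ[R] (1 : A))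
      rw [map_mul, gl_ev_pt]
      generalize gl (R := R) (B ⊗[R] A) k = t
      induction t using TensorProduct.induction_on with
      | zero => simp
      | add t t' ht ht' => simp only [mul_add, map_add, LinearMap.add_apply, ht, ht']
      | tmul b' a =>
        rw [Algebra.TensorProduct.includeLeft_apply, Algebra.TensorProduct.tmul_mul_tmul, TameAct.hmSMul_tmul,
          TameAct.hmSMul_tmul, _root_.one_mul, smul_smul, mul_comm b' b]

theorem atPair_psi (w : M ⊗[R] A) :
    atPair (psi (CoactBr.pt (Algebra.TensorProduct.includeLeft : B →ₐ[R] B ⊗[R] A))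
      (CoactBr.pt (Algebra.TensorProduct.includeRight : A →ₐ[R] B ⊗[R] A)) w) = w := by
  induction w using TensorProduct.induction_on with
  | zero => simp only [map_zero]
  | add w w' hw hw' => simp only [map_add, hw, hw']
  | tmul t a =>
    show TameAct.hmSMul R A B M (gl (B ⊗[R] A) (ev _ a)) (t ⊗ₜ[R] (1 : A)) = _
    rw [gl_ev_pt, Algebra.TensorProduct.includeRight_apply, TameAct.hmSMul_tmul, one_smul, _root_.mul_one]

theorem atPair_one (s : M) :
    atPair (tm M (CoactBr.pt (Algebra.TensorProduct.includeLeft : B →ₐ[R] B ⊗[R] A)) 1 s) = s ⊗ₜ[R] (1 : A) := by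
  show TameAct.hmSMul R A B M (gl (B ⊗[R] A) 1) (s ⊗ₜ[R] (1 : A)) = _
  rw [map_one, Algebra.TensorProduct.one_def, TameAct.hmSMul_tmul, one_smul, _root_.one_mul]

section Comodule

variable [Module R N] [IsScalarTower R B N] [HopfRep.Comod R A M] [HopfRep.Comod R A N]
  [HopfRep.Comod R A B] [GLin.IsCoactAlg R A B] [TameAct.IsHopfMod R A B M] [TameAct.IsHopfMod R A B N]
  {T' : Over (Spec (CommRingCat.of R))}

theorem mapMT_tw {f : M →ₗ[B] N} (hf : Hoch.IsComodHom A (f.restrictScalars R)) {x : T ⟶ CoactBr.sp R B}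
    {x' : T' ⟶ CoactBr.sp R B} (c : T' ⟶ T) (g : T' ⟶ CoactBr.sp R A) (h : c ≫ x = dot x' g) (z : MT M x) :
    mapMT f x' (tw M c g h z) = tw N c g h (mapMT f x z) := by
  induction z using TensorProduct.induction_on with
  | zero => simp only [map_zero]
  | add z z' hz hz' => simp only [map_add, hz, hz']
  | tmul k s =>
    show mapMT f x' (tw M c g h (tm M x k s)) = tw N c g h (mapMT f x (tm M x k s))
    rw [mapMT_tm, tw_tm, tw_tm, map_smul]
    refine congrArg _ ?_
    show mapMT f x' (psi x' g (HopfRep.Comod.coact (k := R) (A := A) s)) =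
      psi x' g (HopfRep.Comod.coact (k := R) (A := A) (f s))
    rw [show HopfRep.Comod.coact (k := R) (A := A) (f s) =
      (f.restrictScalars R).rTensor A (HopfRep.Comod.coact (k := R) (A := A) s) from LinearMap.congr_fun hf s]
    generalize HopfRep.Comod.coact (k := R) (A := A) s = w
    induction w using TensorProduct.induction_on with
    | zero => simp only [map_zero]
    | add w w' hw hw' => simp only [map_add, hw, hw']
    | tmul t a => rw [LinearMap.rTensor_tmul, psi_tmul, psi_tmul, mapMT_tm]; rfl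

end Comodule

end Groth.Agent.HopfSt
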