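import Mathlib
import Groth.Prelude.Def_CoactBr
import Groth.Prelude.Def_AlgSt5
import Groth.Agent.HopfSt.Scal
import Groth.Agent.AlgStLib.QuotStack
import Groth.Agent.RelGen.AffMod

/-!
# The compatible modules on a quotient stack given by an equivariant module

Over a torsor `P → T` with equivariant map `φ : P → Spec B`, the module is the kernel of the difference of the twisted
pullbacks of `Γ(P) ⊗_B M` to `G × P` along the projection and the action.
-/

universe u

open CategoryTheory CategoryTheory.Limits MonoidalCategory CartesianMonoidalCategory AlgebraicGeometry Opposite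
open scoped TensorProduct MonObj

set_option autoImplicit false
set_option backward.isDefEq.respectTransparency false
set_option backward.isDefEq.respectTransparency.types false
set_option linter.style.haveILetI false
set_option linter.unusedSectionVars false

noncomputable section

namespace Groth.Agent.HopfSt

open Groth.Agent.RelGen Groth.Agent.AlgStLib.Quot

variable (R A B : Type u) [CommRing R] [CommRing A] [HopfAlgebra R A] [CommRing B] [Algebra R B]
  [HopfRep.Comod R A B] [GLin.IsCoactAlg R A B]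

/-- The quotient stack of the coaction. -/
abbrev Qst : AlgSt.Cat (Spec (CommRingCat.of R)) :=
  AlgSt.QuotSt Scheme.fppfPrecoverage (CoactBr.sp R A) (CoactBr.action R A B)

/-- An object of the quotient stack. -/
abbrev Obj : Type (u + 1) := AlgSt.QuotObj Scheme.fppfPrecoverage (CoactBr.sp R A) (CoactBr.action R A B)

instance isAffineHom_sp : IsAffineHom (CoactBr.sp R A).hom :=
  inferInstanceAs (IsAffineHom (Spec.map (CommRingCat.ofHom (algebraMap R A))))

variable {R A B}

theorem sndCond (a : Obj R A B) :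
    snd (CoactBr.sp R A) a.P ≫ a.φ = dot (a.act.act ≫ a.φ) (fst (CoactBr.sp R A) a.P) := by
  refine (act_eq_iff (fst (CoactBr.sp R A) a.P) (snd (CoactBr.sp R A) a.P ≫ a.φ) _).1 ?_
  rw [a.eqv]
  congr 1

theorem actCond (a : Obj R A B) :
    a.act.act ≫ a.φ = dot (a.act.act ≫ a.φ) (1 : CoactBr.sp R A ⊗ a.P ⟶ CoactBr.sp R A) := (dot_one _).symm

theorem topCond {a' a : Obj R A B} (g : a' ⟶ a) :
    (g.top : a'.P ⟶ a.P) ≫ a.φ = dot a'.φ (1 : a'.P ⟶ CoactBr.sp R A) := by
  rw [dot_one]
  exact g.wφ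

theorem whiskCond {a' a : Obj R A B} (g : a' ⟶ a) :
    (CoactBr.sp R A ◁ (g.top : a'.P ⟶ a.P)) ≫ a.act.act ≫ a.φ =
      dot (a'.act.act ≫ a'.φ) (1 : CoactBr.sp R A ⊗ a'.P ⟶ CoactBr.sp R A) := by
  rw [dot_one, ← Category.assoc, show (CoactBr.sp R A ◁ (g.top : a'.P ⟶ a.P)) ≫ a.act.act = a'.act.act ≫ g.top from
    g.eqv.symm, Category.assoc]
  exact congrArg _ g.wφ

variable (M : Type u) [AddCommGroup M] [Module B M] [Module R M] [IsScalarTower R B M] [HopfRep.Comod R A M]
  [TameAct.IsHopfMod R A B M]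

/-- The difference of the two twisted pullbacks to the group times the torsor. -/
def dif (a : Obj R A B) :
    Sc M a.π a.φ →ₗ[Γ(a.base.left, ⊤)] Sc M (snd (CoactBr.sp R A) a.P ≫ a.π) (a.act.act ≫ a.φ) where
  toFun z := scTw a.π (snd (CoactBr.sp R A) a.P ≫ a.π) (snd (CoactBr.sp R A) a.P) (fst (CoactBr.sp R A) a.P)
      (sndCond a) z -
    scTw a.π (snd (CoactBr.sp R A) a.P ≫ a.π) a.act.act 1 (actCond a) z
  map_add' z z' := by rw [map_add, map_add, add_sub_add_comm]
  map_smul' r z := by
    rw [scTw_smul (b := 𝟙 a.base) (Category.comp_id _).symm,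
      scTw_smul (b := 𝟙 a.base) (a.cart.w.trans (Category.comp_id _).symm), ← smul_sub]
    simp

/-- The pullback along a morphism of objects. -/
def pull {a' a : Obj R A B} (g : a' ⟶ a) : Sc M a.π a.φ →+ Sc M a'.π a'.φ :=
  scTw a.π a'.π g.top 1 (topCond g)

variable {M}

theorem pull_smul {a' a : Obj R A B} (g : a' ⟶ a) (r : Γ(a.base.left, ⊤)) (z : Sc M a.π a.φ) :
    pull M g (r • z) = (g.base : a'.base ⟶ a.base).left.appTop.hom r • pull M g z :=
  scTw_smul g.cart.w r z

theorem pull_id (a : Obj R A B) (z : Sc M a.π a.φ) : pull M (𝟙 a) z = z :=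
  tw_id (M := M) (topCond (𝟙 a)) z

theorem pull_comp {a'' a' a : Obj R A B} (h : a'' ⟶ a') (g : a' ⟶ a) (z : Sc M a.π a.φ) :
    pull M (h ≫ g) z = pull M h (pull M g z) :=
  ((tw_comp (M := M) (topCond g) (topCond h) z).trans
    (tw_congr rfl (by rw [MonObj.comp_one, _root_.mul_one]) _ (topCond (h ≫ g)) z)).symm

theorem dif_pull {a' a : Obj R A B} (g : a' ⟶ a) (z : Sc M a.π a.φ) :
    dif M a' (pull M g z) =
      scTw (snd (CoactBr.sp R A) a.P ≫ a.π) (snd (CoactBr.sp R A) a'.P ≫ a'.π)
        (CoactBr.sp R A ◁ (g.top : a'.P ⟶ a.P)) 1 (whiskCond g) (dif M a z) := by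
  show _ - _ = scTw _ _ _ _ _ (_ - _)
  rw [map_sub]
  congr 1
  · exact ((tw_comp (M := M) (topCond g) (sndCond a') z).trans
      (tw_congr (by rw [whiskerLeft_snd]) (by rw [whiskerLeft_fst, MonObj.comp_one, _root_.mul_one, _root_.one_mul]) _ _
        z)).trans (tw_comp (M := M) (sndCond a) (whiskCond g) z).symm
  · exact ((tw_comp (M := M) (topCond g) (actCond a') z).trans
      (tw_congr g.eqv (by rw [MonObj.comp_one, MonObj.comp_one]) _ _ z)).trans (tw_comp (M := M) (actCond a) (whiskCond g) z).symm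

theorem isAffine_P (a : Obj R A B) [IsAffine a.base.left] : IsAffine a.P.left := by
  haveI := isAffineHom_π a
  exact isAffine_of_isAffineHom a.π.left

theorem isAffine_GP (a : Obj R A B) [IsAffine a.base.left] : IsAffine (CoactBr.sp R A ⊗ a.P).left := by
  haveI := isAffine_P a
  haveI : IsAffine (CoactBr.sp R A).left := inferInstanceAs (IsAffine (Spec (CommRingCat.of A)))
  exact inferInstanceAs (IsAffine (pullback (CoactBr.sp R A).hom a.P.hom))

variable (M)

/-- The compatible modules given by an equivariant module. -/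
def kerMod : AffMod (Qst R A B) where
  ob a := ModuleCat.of Γ(StMod.sch (Qst R A B) a.obj, ⊤)
    (LinearMap.ker (dif M a.obj) : Submodule Γ(AlgSt.QuotObj.base a.obj |>.left, ⊤) _)
  r {a' a} g := AddMonoidHom.mk'
    (fun z => ⟨pull M g (Subtype.val z), by
      rw [LinearMap.mem_ker, dif_pull, show dif M a.obj (Subtype.val z) = 0 from z.2, map_zero]⟩)
    fun z z' => Subtype.ext (map_add (pull M g) _ _)
  r_smul g r z := Subtype.ext (pull_smul g r _)
  r_id a z := Subtype.ext (pull_id _ _)
  r_comp h g z := Subtype.ext (pull_comp h g _)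

theorem kerMod_r {a' a : AObj (Qst R A B)} (g : a'.obj ⟶ a.obj) (z : (kerMod M).ob a) :
    Subtype.val ((kerMod M).r g z) = pull M g (Subtype.val z) := rfl

/-- The modules given by an equivariant module commute with flat base change. -/
theorem isBC_kerMod : (kerMod (R := R) (A := A) (B := B) M).IsBC := by
  intro A' A₀ g hfl
  haveI : IsAffine (AlgSt.QuotObj.base A₀.obj).left := A₀.aff
  haveI : IsAffine (AlgSt.QuotObj.base A'.obj).left := A'.aff
  haveI := isAffine_P A₀.obj
  haveI := isAffine_GP A₀.obj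
  let a : Obj R A B := A₀.obj
  let a' : Obj R A B := A'.obj
  let gb : a'.base ⟶ a.base := AlgSt.QuotObj.Hom.base g
  let gt : a'.P ⟶ a.P := AlgSt.QuotObj.Hom.top g
  letI : Algebra Γ(a.base.left, ⊤) Γ(a'.base.left, ⊤) := gb.left.appTop.hom.toAlgebra
  haveI : Module.Flat Γ(a.base.left, ⊤) Γ(a'.base.left, ⊤) :=
    HasRingHomProperty.appTop (P := @Flat) _ hfl
  obtain ⟨κ₁, hκ₁, hκ₁'⟩ := exists_bc_equiv (M := M) (x := a.φ) (x' := a'.φ)
    (isPullback_forget (AlgSt.QuotObj.Hom.cart g)) (topCond g)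
  obtain ⟨κ₂, hκ₂, hκ₂'⟩ := exists_bc_equiv (M := M) (x := a.act.act ≫ a.φ) (x' := a'.act.act ≫ a'.φ)
    (q := snd (CoactBr.sp R A) a.P ≫ a.π) (q' := snd (CoactBr.sp R A) a'.P ≫ a'.π) (b := gb)
    (isPullback_forget ((AlgSt.isPullback_whiskerLeft (G := CoactBr.sp R A) gt).paste_vert
      (AlgSt.QuotObj.Hom.cart g))) (whiskCond g)
  have hsub : ∀ {P : Type u} [AddCommGroup P] [Module Γ(a.base.left, ⊤) P]
      {N : Type u} [AddCommGroup N] [Module Γ(a.base.left, ⊤) N] (l : P →ₗ[Γ(a.base.left, ⊤)] N) (β : Γ(a'.base.left, ⊤))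
      (p : P), l.lTensor Γ(a'.base.left, ⊤) (β ⊗ₜ p) = β ⊗ₜ l p := fun l β p => LinearMap.lTensor_tmul _ _ _ _
  let incl := (LinearMap.ker (dif M a)).subtype
  have hcomm : ∀ w, dif M a' (κ₁ w) = κ₂ ((dif M a).lTensor Γ(a'.base.left, ⊤) w) := by
    intro w
    induction w using TensorProduct.induction_on with
    | zero => simp only [map_zero]
    | add w w' hw hw' => simp only [map_add, hw, hw']
    | tmul β z =>
      rw [LinearMap.lTensor_tmul, hκ₁', hκ₂', map_smul]
      exact congrArg (β • ·) (dif_pull g z)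
  have hval : ∀ w, Subtype.val ((kerMod M).bcm (A' := A') (A := A₀) g w) = κ₁ (incl.lTensor Γ(a'.base.left, ⊤) w) := by
    intro w
    induction w using TensorProduct.induction_on with
    | zero => rw [map_zero, map_zero, map_zero]; rfl
    | add w w' hw hw' =>
      rw [map_add, map_add, map_add, ← hw, ← hw']
      rfl
    | tmul β z =>
      exact ((congrArg κ₁ (hsub incl β z)).trans (hκ₁' β (Subtype.val z))).symm
  constructor
  · intro w w' hw
    refine Module.Flat.lTensor_preserves_injective_linearMap (M := Γ(a'.base.left, ⊤)) incl Subtype.val_injective (hκ₁.1 ?_)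
    rw [← hval, ← hval, hw]
  · intro z
    obtain ⟨w, hw⟩ := hκ₁.2 (Subtype.val z)
    have h0 : (dif M a).lTensor Γ(a'.base.left, ⊤) w = 0 := hκ₂.1 (by
      rw [← hcomm, hw, map_zero]
      exact z.2)
    obtain ⟨v, rfl⟩ := ((Module.Flat.lTensor_exact Γ(a'.base.left, ⊤)
      (LinearMap.exact_subtype_ker_map (dif M a))) w).1 h0
    exact ⟨v, Subtype.ext ((hval v).trans hw)⟩

end Groth.Agent.HopfSt
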