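import Mathlib
import Groth.Agent.HopfSt.Kernel
import Groth.Agent.AlgStLib.QuotRepProps
import Groth.Agent.RelGen.OkHom

/-!
# The standard chart of the quotient stack and the standard pair of morphisms to it
-/

universe u

open CategoryTheory CategoryTheory.Limits MonoidalCategory CartesianMonoidalCategory AlgebraicGeometry Opposite
open scoped TensorProduct MonObj

set_option autoImplicit false
set_option backward.isDefEq.respectTransparency false
set_option backward.isDefEq.respectTransparency.types false
set_option linter.style.haveILetI false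
set_option linter.unusedSectionVars false

noncomputable section

namespace Groth.Agent.HopfSt

open Groth.Agent.RelGen Groth.Agent.AlgStLib

variable (R A B : Type u) [CommRing R] [CommRing A] [HopfAlgebra R A] [CommRing B] [Algebra R B]
  [HopfRep.Comod R A B] [GLin.IsCoactAlg R A B]

/-- The object given by a point with values in any scheme. -/
abbrev pObj {R A B : Type u} [CommRing R] [CommRing A] [HopfAlgebra R A] [CommRing B] [Algebra R B]
    [HopfRep.Comod R A B] [GLin.IsCoactAlg R A B] {T : Over (Spec (CommRingCat.of R))} (x : T ⟶ CoactBr.sp R B) :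
    Obj R A B :=
  (AlgSt.quotMap Scheme.fppfPrecoverage (CoactBr.sp R A) (CoactBr.action R A B)).obj (qpt T x)

/-- The standard chart. -/
abbrev x0 : Obj R A B := pObj (A := A) (𝟙 (CoactBr.sp R B))

/-- The coordinate point of the product of the scheme with the group. -/
abbrev inlPt : CoactBr.sp R (B ⊗[R] A) ⟶ CoactBr.sp R B :=
  CoactBr.pt (Algebra.TensorProduct.includeLeft : B →ₐ[R] B ⊗[R] A)

/-- The coordinate point of the group. -/
abbrev inrPt : CoactBr.sp R (B ⊗[R] A) ⟶ CoactBr.sp R A :=
  CoactBr.pt (Algebra.TensorProduct.includeRight : A →ₐ[R] B ⊗[R] A)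

/-- The object over the product of the scheme with the group. -/
abbrev o1 : Obj R A B := pObj (A := A) (inlPt R A B)

/-- The projection to the standard chart. -/
def projMor : o1 R A B ⟶ x0 R A B :=
  (AlgSt.quotMap Scheme.fppfPrecoverage (CoactBr.sp R A) (CoactBr.action R A B)).map
    (⟨inlPt R A B, congrArg ULift.up (show inlPt R A B ≫ 𝟙 (CoactBr.sp R B) = inlPt R A B from Category.comp_id _)⟩ :
      qpt (CoactBr.sp R (B ⊗[R] A)) (inlPt R A B) ⟶ qpt (CoactBr.sp R B) (𝟙 (CoactBr.sp R B)))

variable {R A B}

/-- The morphism to the standard chart given by a point of the group. -/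
def movMor {T : Over (Spec (CommRingCat.of R))} (x : T ⟶ CoactBr.sp R B) (g : T ⟶ CoactBr.sp R A) :
    pObj (A := A) x ⟶ x0 R A B :=
  quotMor (dot x g) g (by rw [Category.comp_id]; exact (act_eq_iff g (dot x g) x).2 rfl)

variable (R A B)

/-- The translation to the standard chart. -/
def actMor : o1 R A B ⟶ x0 R A B := movMor (inlPt R A B) (inrPt R A B)

theorem flat_sp [Module.Flat R A] : Flat (CoactBr.sp R A).hom := by
  show Flat (Spec.map (CommRingCat.ofHom (algebraMap R A)))
  rw [HasRingHomProperty.Spec_iff (P := @Flat)]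
  exact RingHom.flat_algebraMap_iff.mpr ‹_›

theorem isOk_x0 [Module.Flat R A] (h : FibCat.IsFibGrpd (Qst R A B).p) : IsOk (Q := Qst R A B) (x0 R A B) := by
  haveI := flat_sp R A
  exact isOk_of_chart h (T := CoactBr.sp R B) (Quot.qX (aX := CoactBr.action R A B))
    (Quot.repWith_qX_locP @Flat Groth.Agent.AlgSpLib.etST_flat ‹_›)

/-- The standard chart as an affine object. -/
abbrev a0 : AObj (Qst R A B) := ⟨x0 R A B, inferInstanceAs (IsAffine (Spec (CommRingCat.of B)))⟩

/-- The object over the product as an affine object. -/
abbrev a1 : AObj (Qst R A B) := ⟨o1 R A B, inferInstanceAs (IsAffine (Spec (CommRingCat.of (B ⊗[R] A))))⟩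

end Groth.Agent.HopfSt
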