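import Mathlib
import Groth.Agent.HopfSt.Top
import Groth.Agent.HopfSt.Coord
import Groth.Agent.RelGen.CohPush
import Groth.Agent.RelGen.SurjDesc
import Groth.Agent.AlgStLib.QuotDescend

/-!
# Equivariant modules as quasi-coherent modules on the quotient stack
-/

universe u

open CategoryTheory CategoryTheory.Limits MonoidalCategory CartesianMonoidalCategory AlgebraicGeometry Opposite
open scoped TensorProduct MonObj

set_option autoImplicit false
set_option backward.isDefEq.respectTransparency false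
set_option backward.isDefEq.respectTransparency.types false
set_option linter.style.haveILetI false
set_option linter.unusedSectionVars false

noncomputable section

namespace Groth.Agent.HopfSt

open Groth.Agent.RelGen Groth.Agent.AlgStLib Groth.Agent.QC Groth.Agent.QDescent

local notation "AS" => AlgSt.IsAlgStack Scheme.fppfPrecoverage

variable {R A B : Type u} [CommRing R] [CommRing A] [HopfAlgebra R A] [CommRing B] [Algebra R B]
  [HopfRep.Comod R A B] [GLin.IsCoactAlg R A B]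
  {M N : Type u} [AddCommGroup M] [Module B M] [Module R M] [IsScalarTower R B M] [HopfRep.Comod R A M]
  [TameAct.IsHopfMod R A B M] [AddCommGroup N] [Module B N] [Module R N] [IsScalarTower R B N] [HopfRep.Comod R A N]
  [TameAct.IsHopfMod R A B N]

theorem baseCond :
    snd (CoactBr.sp R A) (CoactBr.sp R B) ≫ 𝟙 (CoactBr.sp R B) =
      dot (x0 R A B).φ (fst (CoactBr.sp R A) (CoactBr.sp R B)) := by
  refine (act_eq_iff _ _ _).1 ?_
  show _ = (CoactBr.sp R A ◁ 𝟙 (CoactBr.sp R B)) ≫ (CoactBr.action R A B).act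
  rw [MonoidalCategory.whiskerLeft_id, Category.id_comp, Category.comp_id, lift_fst_snd, Category.id_comp]

/-- The unit section of the trivial torsor. -/
abbrev eSec (T : Over (Spec (CommRingCat.of R))) : T ⟶ CoactBr.sp R A ⊗ T := lift 1 (𝟙 T)

theorem eSecCond {T : Over (Spec (CommRingCat.of R))} (x : T ⟶ CoactBr.sp R B) :
    eSec (A := A) T ≫ (pObj (A := A) x).φ = dot x (1 : T ⟶ CoactBr.sp R A) := by
  refine Eq.trans ?_ (dot_one x).symm
  show eSec T ≫ (CoactBr.sp R A ◁ x) ≫ (CoactBr.action R A B).act = x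
  rw [lift_whiskerLeft_assoc, Category.id_comp]
  exact (act_eq_iff (1 : T ⟶ CoactBr.sp R A) x x).2 (dot_one x).symm

/-- The section of the standard chart with a given value. -/
def sec0 (m : M) : (kerMod (R := R) (A := A) (B := B) M).ob (a0 R A B) :=
  ⟨scTw (q := 𝟙 (CoactBr.sp R B)) (q' := (x0 R A B).π) (snd (CoactBr.sp R A) (CoactBr.sp R B))
      (fst (CoactBr.sp R A) (CoactBr.sp R B)) baseCond (tm M (𝟙 (CoactBr.sp R B)) 1 m), by
    rw [LinearMap.mem_ker]
    refine sub_eq_zero.2 ?_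
    refine (tw_comp (M := M) baseCond (sndCond (x0 R A B)) _).trans
      ((tw_congr ?_ ?_ _ _ _).trans (tw_comp (M := M) baseCond (actCond (x0 R A B)) _).symm)
    · show snd _ _ ≫ snd _ _ = (AlgSt.leftMul (CoactBr.sp R A) (CoactBr.sp R B)).act ≫ snd _ _
      simp [AlgSt.leftMul]
    · show fst (CoactBr.sp R A) (CoactBr.sp R A ⊗ CoactBr.sp R B) *
          (snd (CoactBr.sp R A) (CoactBr.sp R A ⊗ CoactBr.sp R B) ≫ fst (CoactBr.sp R A) (CoactBr.sp R B)) =
        1 * ((AlgSt.leftMul (CoactBr.sp R A) (CoactBr.sp R B)).act ≫ fst (CoactBr.sp R A) (CoactBr.sp R B))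
      simp [AlgSt.leftMul]⟩

/-- The value of a section over the standard chart. -/
def val0 : (kerMod (R := R) (A := A) (B := B) M).ob (a0 R A B) →+ M :=
  AddMonoidHom.mk' (fun z => atId (tw M (eSec (CoactBr.sp R B)) 1 (eSecCond (A := A) (𝟙 (CoactBr.sp R B)))
    (Subtype.val z : Sc M (x0 R A B).π (x0 R A B).φ)))
    fun z z' => (congrArg atId (map_add (tw M _ _ (eSecCond (A := A) (𝟙 (CoactBr.sp R B)))) _ _)).trans (map_add atId _ _)

theorem sec0_val0 (z : (kerMod (R := R) (A := A) (B := B) M).ob (a0 R A B)) : sec0 (val0 z) = z := by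
  refine Subtype.ext ?_
  show tw M _ _ baseCond (tm M _ 1 (atId _)) = _
  rw [tm_atId]
  let G := CoactBr.sp R A
  let X := CoactBr.sp R B
  let w : G ⊗ X ⟶ G ⊗ (G ⊗ X) := lift (fst G X) (snd G X ≫ eSec (A := A) X)
  let z' : MT M (x0 R A B).φ := (Subtype.val z : Sc M (x0 R A B).π (x0 R A B).φ)
  have hwact : w ≫ (x0 R A B).act.act = 𝟙 (G ⊗ X) := by
    show w ≫ (AlgSt.leftMul G X).act = _
    simp [AlgSt.leftMul, w, MonObj.comp_mul, MonObj.comp_one]
    exact (congrArg (lift (fst G X)) (lift_snd _ _)).trans lift_fst_snd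
  have hw : w ≫ (x0 R A B).act.act ≫ (x0 R A B).φ = dot (x0 R A B).φ (1 : G ⊗ X ⟶ G) := by
    rw [dot_one, ← Category.assoc, hwact]
    exact Category.id_comp _
  have hk : tw M _ _ (sndCond (x0 R A B)) z' = tw M _ _ (actCond (x0 R A B)) z' := sub_eq_zero.1 z.2
  have h1 := congrArg (tw M w 1 hw) hk
  rw [tw_comp, tw_comp] at h1
  refine (tw_comp (M := M) (eSecCond (A := A) (𝟙 X)) baseCond z').trans ?_
  refine ((tw_congr ?_ ?_ _ _ z').trans h1).trans ((tw_congr hwact ?_ _ (by rw [dot_one]; exact Category.id_comp _) z').trans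
    (tw_id _ z'))
  · show snd G X ≫ eSec X = w ≫ snd G (G ⊗ X)
    simp [w]
  · show fst G X * (snd G X ≫ 1) = 1 * (w ≫ fst G (G ⊗ X))
    simp [w, MonObj.comp_one]
  · rw [MonObj.comp_one, _root_.mul_one]

theorem val0_sec0 (m : M) : val0 (sec0 (R := R) (A := A) (B := B) m) = m := by
  show atId (tw M _ _ _ (tw M _ _ baseCond (tm M _ 1 m))) = m
  rw [tw_comp, tw_congr (c' := 𝟙 (CoactBr.sp R B)) (g' := 1) ?_ ?_ _ (by rw [dot_one, Category.id_comp]),
    tw_id, atId_one]
  · simp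
  · simp

variable (M) in
/-- The functoriality in the module. -/
def mapKer (f : M →ₗ[B] N) (hf : Hoch.IsComodHom A (f.restrictScalars R)) (a : AObj (Qst R A B)) :
    (kerMod M).ob a →+ (kerMod N).ob a :=
  AddMonoidHom.mk' (fun z => ⟨(mapMT f _ (Subtype.val z : Sc M _ (AlgSt.QuotObj.φ a.obj)) : MT N _), by
    let z' : MT M (AlgSt.QuotObj.φ a.obj) := (Subtype.val z : Sc M _ (AlgSt.QuotObj.φ a.obj))
    have hk : tw M _ _ (sndCond a.obj) z' = tw M _ _ (actCond a.obj) z' := sub_eq_zero.1 z.2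
    rw [LinearMap.mem_ker]
    refine sub_eq_zero.2 ?_
    exact ((mapMT_tw hf _ _ (sndCond a.obj) z').symm.trans (congrArg (mapMT f _) hk)).trans
      (mapMT_tw hf _ _ (actCond a.obj) z')⟩)
    fun z z' => Subtype.ext (map_add (mapMT f (AlgSt.QuotObj.φ a.obj)) _ _)

theorem mapKer_smul (f : M →ₗ[B] N) (hf : Hoch.IsComodHom A (f.restrictScalars R)) (a : AObj (Qst R A B))
    (r : Γ(StMod.sch (Qst R A B) a.obj, ⊤)) (z : (kerMod M).ob a) :
    mapKer M f hf a (r • z) = r • mapKer M f hf a z :=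
  Subtype.ext ((mapMT f (AlgSt.QuotObj.φ a.obj)).map_smul _ _)

theorem mapKer_r (f : M →ₗ[B] N) (hf : Hoch.IsComodHom A (f.restrictScalars R)) {a' a : AObj (Qst R A B)}
    (g : a'.obj ⟶ a.obj) (z : (kerMod M).ob a) :
    (kerMod N).r g (mapKer M f hf a z) = mapKer M f hf a' ((kerMod M).r g z) :=
  Subtype.ext (mapMT_tw hf _ _ (topCond g) _).symm

theorem mapKer_sec0 (f : M →ₗ[B] N) (hf : Hoch.IsComodHom A (f.restrictScalars R)) (m : M) :
    mapKer M f hf (a0 R A B) (sec0 m) = sec0 (f m) :=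
  Subtype.ext ((mapMT_tw hf _ _ baseCond _).trans (congrArg (tw N _ _ baseCond) (mapMT_tm f _ 1 m)))

/-- The compatible family given by an invariant. -/
def invSec {n : N} (hn : n ∈ HopfRep.fixedPts R A N) (a : AObj (Qst R A B)) :
    (kerMod (R := R) (A := A) (B := B) N).ob a :=
  ⟨(tm N (AlgSt.QuotObj.φ a.obj) 1 n : MT N _), by
    rw [LinearMap.mem_ker]
    exact sub_eq_zero.2 ((tw_fixed _ _ (sndCond a.obj) hn).trans (tw_fixed _ _ (actCond a.obj) hn).symm)⟩

theorem invSec_r {n : N} (hn : n ∈ HopfRep.fixedPts R A N) {a' a : AObj (Qst R A B)} (g : a'.obj ⟶ a.obj) :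
    (kerMod N).r g (invSec hn a) = invSec hn a' := Subtype.ext (tw_fixed _ _ (topCond g) hn)

theorem val0_invSec {n : N} (hn : n ∈ HopfRep.fixedPts R A N) : val0 (invSec hn (a0 R A B)) = n := by
  show atId (tw N _ _ _ (tm N _ 1 n)) = n
  rw [tw_fixed _ _ _ hn, atId_one]

/-- Two equal pullbacks to the product give an invariant value. -/
theorem val0_mem_fixedPts (z : (kerMod (R := R) (A := A) (B := B) M).ob (a0 R A B))
    (hz : (kerMod M).r (A' := a1 R A B) (actMor R A B) z = (kerMod M).r (A' := a1 R A B) (projMor R A B) z) :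
    val0 z ∈ HopfRep.fixedPts R A M := by
  obtain ⟨m, rfl⟩ : ∃ m, sec0 m = z := ⟨_, sec0_val0 z⟩
  rw [val0_sec0]
  let W := CoactBr.sp R (B ⊗[R] A)
  let x := inlPt R A B
  let g := inrPt R A B
  have h1 := congrArg (fun k : (kerMod (R := R) (A := A) (B := B) M).ob (a1 R A B) =>
    tw M (eSec W) 1 (eSecCond (A := A) x) (Subtype.val k : Sc M (o1 R A B).π (o1 R A B).φ)) hz
  change tw M _ _ (eSecCond (A := A) x) (tw M _ _ (topCond (actMor R A B))
      (tw M _ _ baseCond (tm M _ 1 m))) =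
    tw M _ _ (eSecCond (A := A) x) (tw M _ _ (topCond (projMor R A B)) (tw M _ _ baseCond (tm M _ 1 m))) at h1
  rw [tw_comp, tw_comp, tw_comp, tw_comp] at h1
  rw [tw_congr (c' := dot x g) (g' := g) ?_ ?_ _ (Category.comp_id _),
    tw_congr (c := (eSec W ≫ (projMor R A B).top) ≫ snd (CoactBr.sp R A) (CoactBr.sp R B)) (c' := x) (g' := 1) ?_ ?_ _ (by rw [dot_one]; exact Category.comp_id _),
    tw_tm, tw_tm_one, map_one] at h1
  · have h2 := congrArg atPair h1
    show HopfRep.Comod.coact (k := R) (A := A) m = m ⊗ₜ[R] (1 : A)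
    refine ((atPair_psi _).symm.trans ((congrArg atPair ?_).trans h2)).trans ?_
    · show psi x g _ = (1 : Al x) • th x g m
      rw [one_smul]
      rfl
    · rw [map_one]
      exact atPair_one m
  all_goals simp [eSec, actMor, projMor, movMor, quotMor, AlgSt.quotMap, x, g, W, MonObj.comp_mul, MonObj.comp_one]

section Stack

variable [Module.Flat R A] [Algebra.FinitePresentation R A]

theorem lfp_sp : LocallyOfFinitePresentation (CoactBr.sp R A).hom := by
  show LocallyOfFinitePresentation (Spec.map (CommRingCat.ofHom (algebraMap R A)))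
  rw [HasRingHomProperty.Spec_iff (P := @LocallyOfFinitePresentation)]
  exact RingHom.finitePresentation_algebraMap.mpr ‹_›

/-- The morphism to the standard chart given by a point. -/
def toX0 {T : Over (Spec (CommRingCat.of R))} (y : T ⟶ CoactBr.sp R B) : pObj (A := A) y ⟶ x0 R A B :=
  (AlgSt.quotMap Scheme.fppfPrecoverage (CoactBr.sp R A) (CoactBr.action R A B)).map
    (⟨y, congrArg ULift.up (show y ≫ 𝟙 (CoactBr.sp R B) = y from Category.comp_id _)⟩ :
      qpt T y ⟶ qpt (CoactBr.sp R B) (𝟙 (CoactBr.sp R B)))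

theorem surjective_pObj {F G : StMod.QCoh (Qst R A B)} (v : F ⟶ G)
    (h0 : Function.Surjective ((v.hom.app (x0 R A B)).app ⊤)) {T : Over (Spec (CommRingCat.of R))} [IsAffine T.left]
    (y : T ⟶ CoactBr.sp R B) : Function.Surjective ((v.hom.app (pObj (A := A) y)).app ⊤) := by
  haveI : IsAffine (StMod.sch (Qst R A B) (x0 R A B)) := (a0 R A B).aff
  haveI : IsAffine (StMod.sch (Qst R A B) (pObj (A := A) y)) := ‹IsAffine T.left›
  intro t
  refine top_induction G (toX0 y) (p := fun t => ∃ s, (v.hom.app (pObj (A := A) y)).app ⊤ s = t) ⟨0, map_zero _⟩ ?_ ?_ t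
  · rintro a b ⟨s, rfl⟩ ⟨s', rfl⟩
    exact ⟨s + s', map_add _ _ _⟩
  · intro r t
    obtain ⟨s, rfl⟩ := h0 t
    exact ⟨r • trT F.obj (toX0 y) s, (Scheme.Modules.Hom.app_smul _ _ _).trans
      (congrArg (r • ·) (tr_hom v.hom (toX0 y) ⊤ ⊤ (top_le _) s).symm)⟩

/-- A morphism surjective on the standard chart is surjective. -/
theorem isSurj_of_x0 {F G : StMod.QCoh (Qst R A B)} (v : F ⟶ G)
    (h0 : Function.Surjective ((v.hom.app (x0 R A B)).app ⊤)) : StMod.Mod.IsSurj v.hom := by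
  intro ξ hξ
  haveI : IsAffine (AlgSt.QuotObj.base ξ).left := hξ
  haveI := isAffine_P ξ
  haveI := flat_sp R A
  haveI : LocallyOfFinitePresentation (CoactBr.sp R A).hom := lfp_sp
  obtain ⟨h₁, h₂, -⟩ := Quot.fppf_π ξ
  let y : AlgSt.QuotObj.P ξ ⟶ CoactBr.sp R B := 𝟙 _ ≫ AlgSt.QuotObj.φ ξ
  let e : pObj (A := A) y ⟶ ξ := Quot.trivHom ξ (𝟙 _)
  haveI : IsAffine (StMod.sch (Qst R A B) (pObj (A := A) y)) := ‹IsAffine (AlgSt.QuotObj.P ξ).left›
  have he : StMod.bmap (Qst R A B) e = (AlgSt.QuotObj.π ξ).left :=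
    congrArg CommaMorphism.left (Category.id_comp (AlgSt.QuotObj.π ξ))
  haveI : Flat (StMod.bmap (Qst R A B) e) := by rw [he]; exact h₁
  haveI : Surjective (StMod.bmap (Qst R A B) e) := by rw [he]; exact h₂
  exact surjective_app_of_ff v e (surjective_pObj v h0 y)

/-- A comodule map gives a morphism of quasi-coherent modules, surjective if the map is. -/
theorem exists_qcHom (hQ : AS (Qst R A B)) (f : M →ₗ[B] N) (hf : Hoch.IsComodHom A (f.restrictScalars R))
    (RM : Realization (kerMod (R := R) (A := A) (B := B) M))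
    (RN : Realization (kerMod (R := R) (A := A) (B := B) N)) :
    ∃ v : RM.G ⟶ RN.G,
      (∀ (a : AObj (Qst R A B)) (hok : IsOk a.obj) s,
        RN.ρ (topOk a hok) a.aff ((v.hom.app a.obj).app ⊤ s) = mapKer M f hf a (RM.ρ (topOk a hok) a.aff s)) ∧
      (Function.Surjective f → StMod.Mod.IsSurj v.hom) := by
  choose w hw using fun (a : AObj (Qst R A B)) (hok : IsOk a.obj) s =>
    (RN.ρ_topOk_bijective a hok).2 (mapKer M f hf a (RM.ρ (topOk a hok) a.aff s))
  have hadd : ∀ (a : AObj (Qst R A B)) (hok : IsOk a.obj) s t, w a hok (s + t) = w a hok s + w a hok t :=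
    fun a hok s t => (RN.ρ_topOk_bijective a hok).1 ((hw a hok _).trans
      (((congrArg (mapKer M f hf a) (map_add (RM.ρ (topOk a hok) a.aff) s t)).trans (map_add _ _ _)).trans
        ((map_add (RN.ρ (topOk a hok) a.aff) _ _).trans (congrArg₂ (· + ·) (hw a hok s) (hw a hok t))).symm))
  have hsmul : ∀ (a : AObj (Qst R A B)) (hok : IsOk a.obj) (r : Γ(StMod.sch (Qst R A B) a.obj, ⊤))
      (s : Γ(RM.G.obj.obj a.obj, ⊤)), w a hok (r • s) = r • w a hok s :=
    fun a hok r s => (RN.ρ_topOk_bijective a hok).1 ((hw a hok _).trans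
      (((congrArg (mapKer M f hf a) (RM.ρ_smul (topOk a hok) a.aff r s)).trans (mapKer_smul f hf a r _)).trans
        ((RN.ρ_smul (topOk a hok) a.aff r _).trans (congrArg (r • ·) (hw a hok s))).symm))
  have hnat : ∀ {a' a : AObj (Qst R A B)} (c : a'.obj ⟶ a.obj) (hok' : IsOk a'.obj) (hok : IsOk a.obj)
      (s : Γ(RM.G.obj.obj a.obj, ⊤)), trT RN.G.obj c (w a hok s) = w a' hok' (trT RM.G.obj c s) := by
    intro a' a c hok' hok s
    refine (RN.ρ_topOk_bijective a' hok').1 ?_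
    have e₁ : RN.ρ (topOk a' hok') a'.aff (trT RN.G.obj c (w a hok s)) =
        (kerMod N).r c (RN.ρ (topOk a hok) a.aff (w a hok s)) :=
      RN.ρ_nat (covHom (o' := topOk a' hok') (o := topOk a hok) c) a'.aff a.aff (w a hok s)
    have e₂ : RM.ρ (topOk a' hok') a'.aff (trT RM.G.obj c s) = (kerMod M).r c (RM.ρ (topOk a hok) a.aff s) :=
      RM.ρ_nat (covHom (o' := topOk a' hok') (o := topOk a hok) c) a'.aff a.aff s
    rw [e₁, hw a hok s, hw a' hok' (trT RM.G.obj c s), e₂, mapKer_r f hf c]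
  obtain ⟨v, hv⟩ := exists_hom_of_ok (M := RM.G) (P := RN.G) hQ
    (fun a ha hok => AddMonoidHom.mk' (w ⟨a, ha⟩ hok) (hadd ⟨a, ha⟩ hok))
    (fun a ha hok r s => hsmul ⟨a, ha⟩ hok r s)
    (fun {a' a} c ha' hok' ha hok s => hnat (a' := ⟨a', ha'⟩) (a := ⟨a, ha⟩) c hok' hok s)
  have hρ : ∀ (a : AObj (Qst R A B)) (hok : IsOk a.obj) s,
      RN.ρ (topOk a hok) a.aff ((v.hom.app a.obj).app ⊤ s) = mapKer M f hf a (RM.ρ (topOk a hok) a.aff s) :=
    fun a hok s => (congrArg (RN.ρ (topOk a hok) a.aff) (hv a.obj a.aff hok s)).trans (hw a hok s)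
  refine ⟨v, hρ, fun hsurj => isSurj_of_x0 v fun t => ?_⟩
  have hok := isOk_x0 R A B hQ.isStack.1
  obtain ⟨m, hm⟩ := hsurj (val0 (RN.ρ (topOk (a0 R A B) hok) (a0 R A B).aff t))
  obtain ⟨s, hs⟩ := (RM.ρ_topOk_bijective (a0 R A B) hok).2 (sec0 m)
  refine ⟨s, (RN.ρ_topOk_bijective (a0 R A B) hok).1 ?_⟩
  rw [hρ (a0 R A B) hok s, hs, mapKer_sec0, hm, sec0_val0]

end Stack

end Groth.Agent.HopfSt
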