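import Mathlib
import Groth.Prelude.Def_StMod2
import Groth.Agent.HopfSt.ToStack

/-!
# Exactness of invariants from exactness of sections over an affine scheme below the quotient stack
-/

universe u

open CategoryTheory CategoryTheory.Limits MonoidalCategory CartesianMonoidalCategory AlgebraicGeometry Opposite
open scoped TensorProduct MonObj

set_option autoImplicit false
set_option backward.isDefEq.respectTransparency false
set_option backward.isDefEq.respectTransparency.types false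
set_option linter.style.haveILetI false
set_option linter.unusedSectionVars false

noncomputable section

namespace Groth.Agent.HopfSt

open Groth.Agent.RelGen Groth.Agent.AlgStLib Groth.Agent.QC Groth.Agent.QDescent

local notation "AS" => AlgSt.IsAlgStack Scheme.fppfPrecoverage

variable {R A B : Type u} [CommRing R] [CommRing A] [HopfAlgebra R A] [CommRing B] [Algebra R B]
  [HopfRep.Comod R A B] [GLin.IsCoactAlg R A B] {Y : Over (Spec (CommRingCat.of R))}
  (π : Qst R A B ⥤ᵇ AlgSt.ofSch Y)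

/-- The scheme below as an object over itself. -/
abbrev idObj (Y : Over (Spec (CommRingCat.of R))) : (AlgSt.ofSch Y).obj := ⟨Y, ⟨𝟙 Y⟩⟩

/-- The morphism of an image to the scheme below. -/
def toIdObj (w : (AlgSt.ofSch Y).obj) : w ⟶ idObj Y :=
  ⟨w.sec.down, congrArg ULift.up (show w.sec.down ≫ 𝟙 Y = w.sec.down from Category.comp_id _)⟩

theorem eq_toIdObj {w : (AlgSt.ofSch Y).obj} (α : w ⟶ idObj Y) : α = toIdObj w :=
  Stk.EltObj.hom_ext ((Category.comp_id _).symm.trans
    (show α.hom ≫ 𝟙 Y = w.sec.down from congrArg ULift.down α.map_sec))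

theorem relSect_val_congr {F : StMod.Mod (Qst R A B)} (s : StMod.Mod.RelSect π F (idObj Y))
    (ξ : (Qst R A B).obj) (α β : π.obj ξ ⟶ idObj Y) : s.1 ξ α = s.1 ξ β := by
  rw [eq_toIdObj α, eq_toIdObj β]

theorem trT_relSect {F : StMod.Mod (Qst R A B)} (s : StMod.Mod.RelSect π F (idObj Y))
    {ξ' ξ : (Qst R A B).obj} (c : ξ' ⟶ ξ) (α : π.obj ξ ⟶ idObj Y) (α' : π.obj ξ' ⟶ idObj Y) :
    trT F c (s.1 ξ α) = s.1 ξ' α' :=
  ((trT_eq_map F c _).trans (s.2 c α)).trans (relSect_val_congr π s ξ' _ _)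

variable [Module.Flat R A] [Algebra.FinitePresentation R A]
  {M N : Type u} [AddCommGroup M] [Module B M] [Module R M] [IsScalarTower R B M] [HopfRep.Comod R A M]
  [TameAct.IsHopfMod R A B M] [AddCommGroup N] [Module B N] [Module R N] [IsScalarTower R B N] [HopfRep.Comod R A N]
  [TameAct.IsHopfMod R A B N]

/-- Exactness of the sections over the scheme below gives exactness of invariants. -/
theorem exists_invariant_lift (hQ : AS (Qst R A B))
    (h : ∀ ⦃F G : StMod.QCoh (Qst R A B)⦄ (v : F ⟶ G), StMod.Mod.IsSurj v.hom → SurjAt π (idObj Y) v)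
    (f : M →ₗ[B] N) (hf : Hoch.IsComodHom A (f.restrictScalars R)) (hsurj : Function.Surjective f)
    {n : N} (hn : n ∈ HopfRep.fixedPts R A N) : ∃ m ∈ HopfRep.fixedPts R A M, f m = n := by
  obtain ⟨RM⟩ := exists_realization (kerMod (R := R) (A := A) (B := B) M) hQ (isBC_kerMod M)
  obtain ⟨RN⟩ := exists_realization (kerMod (R := R) (A := A) (B := B) N) hQ (isBC_kerMod N)
  obtain ⟨v, hv, hvs⟩ := exists_qcHom hQ f hf RM RN
  have hg : FibCat.IsFibGrpd (Qst R A B).p := hQ.isStack.1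
  have hok := isOk_x0 R A B hg
  choose T hT using fun (a : AObj (Qst R A B)) (ha : IsOk a.obj) =>
    (RN.ρ_topOk_bijective a ha).2 (invSec hn a)
  have hnat : ∀ {a' a : AObj (Qst R A B)} (c : a'.obj ⟶ a.obj) (hok' : IsOk a'.obj) (hok : IsOk a.obj),
      trT RN.G.obj c (T a hok) = T a' hok' := by
    intro a' a c hok' hok
    refine (RN.ρ_topOk_bijective a' hok').1 ?_
    have e₁ : RN.ρ (topOk a' hok') a'.aff (trT RN.G.obj c (T a hok)) =
        (kerMod N).r c (RN.ρ (topOk a hok) a.aff (T a hok)) :=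
      RN.ρ_nat (covHom (o' := topOk a' hok') (o := topOk a hok) c) a'.aff a.aff (T a hok)
    rw [e₁, hT a hok, hT a' hok', invSec_r hn c]
  obtain ⟨Φ, hΦ⟩ := exists_sect_of_ok (M := RN.G) hQ (fun a ha hok => T ⟨a, ha⟩ hok)
    (fun {a' a} c ha' hok' ha hok => hnat (a' := ⟨a', ha'⟩) (a := ⟨a, ha⟩) c hok' hok)
  let t : StMod.Mod.RelSect π RN.G.obj (idObj Y) :=
    ⟨fun ξ _ => (Φ.hom.app ξ).app ⊤ (oneSec _ ξ), fun ξ' ξ c α =>
      (trT_eq_map RN.G.obj c _).symm.trans (trT_app_oneSec Φ c)⟩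
  obtain ⟨s, hs⟩ := h v (hvs hsurj) t
  let α₀ : π.obj (x0 R A B) ⟶ idObj Y := toIdObj _
  let s₀ : Γ(RM.G.obj.obj (x0 R A B), ⊤) := s.1 (x0 R A B) α₀
  let z : (kerMod (R := R) (A := A) (B := B) M).ob (a0 R A B) :=
    RM.ρ (topOk (a0 R A B) hok) (a0 R A B).aff s₀
  refine ⟨val0 z, val0_mem_fixedPts z ?_, ?_⟩
  · let o : (Cov (Qst R A B)).obj := ⟨o1 R A B, a0 R A B, hok, projMor R A B⟩
    have e : ∀ c : o1 R A B ⟶ x0 R A B, RM.ρ o (a1 R A B).aff (trT RM.G.obj c s₀) =
        (kerMod M).r (A' := a1 R A B) (A := a0 R A B) c z := fun c =>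
      RM.ρ_nat (covHom (o' := o) (o := topOk (a0 R A B) hok) c) (a1 R A B).aff (a0 R A B).aff s₀
    rw [← e, ← e, trT_relSect π s (actMor R A B) α₀ (toIdObj _), trT_relSect π s (projMor R A B) α₀ (toIdObj _)]
  · have hval : mapKer M f hf (a0 R A B) z = sec0 (f (val0 z)) := by
      conv_lhs => rw [← sec0_val0 z]
      exact mapKer_sec0 f hf _
    have h1 : (v.hom.app (x0 R A B)).app ⊤ s₀ = T (a0 R A B) hok :=
      (congrArg (fun k : StMod.Mod.RelSect π RN.G.obj (idObj Y) => k.1 (x0 R A B) α₀) hs).trans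
        (hΦ (x0 R A B) (a0 R A B).aff hok)
    have h2 := (hv (a0 R A B) hok s₀).symm.trans ((congrArg (RN.ρ (topOk (a0 R A B) hok) (a0 R A B).aff) h1).trans
      (hT (a0 R A B) hok))
    rw [← val0_sec0 (R := R) (A := A) (B := B) (f (val0 z)), ← hval]
    exact (congrArg val0 h2).trans (val0_invSec hn)

end Groth.Agent.HopfSt
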