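import Mathlib
import Groth.Prelude.Def_StMod2
import Groth.Agent.HopfSt.Top
import Groth.Agent.HopfSt.Coord
import Groth.Agent.RelGen.OkHom

/-!
# The equivariant module of a quasi-coherent module on the quotient stack
-/

universe u

open CategoryTheory CategoryTheory.Limits MonoidalCategory CartesianMonoidalCategory AlgebraicGeometry Opposite
open scoped TensorProduct MonObj

set_option autoImplicit false
set_option backward.isDefEq.respectTransparency false
set_option backward.isDefEq.respectTransparency.types false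
set_option linter.style.haveILetI false
set_option linter.unusedSectionVars false

noncomputable section

namespace Groth.Agent.HopfSt

open Groth.Agent.RelGen Groth.Agent.AlgStLib Groth.Agent.QC Groth.Agent.QDescent

variable {R A B : Type u} [CommRing R] [CommRing A] [HopfAlgebra R A] [CommRing B] [Algebra R B]
  [HopfRep.Comod R A B] [GLin.IsCoactAlg R A B]
  {T T' : Over (Spec (CommRingCat.of R))}

section Mor

/-- The morphism to the standard chart given by a point. -/
def chartMor (x : T ⟶ CoactBr.sp R B) : pObj (A := A) x ⟶ x0 R A B :=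
  (AlgSt.quotMap Scheme.fppfPrecoverage (CoactBr.sp R A) (CoactBr.action R A B)).map
    (⟨x, congrArg ULift.up (show x ≫ 𝟙 (CoactBr.sp R B) = x from Category.comp_id _)⟩ :
      qpt T x ⟶ qpt (CoactBr.sp R B) (𝟙 (CoactBr.sp R B)))

/-- The morphism of trivial objects given by a morphism of bases. -/
def overMor (c : T' ⟶ T) {x : T ⟶ CoactBr.sp R B} {x' : T' ⟶ CoactBr.sp R B} (h : c ≫ x = x') :
    pObj (A := A) x' ⟶ pObj (A := A) x :=
  (AlgSt.quotMap Scheme.fppfPrecoverage (CoactBr.sp R A) (CoactBr.action R A B)).map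
    (⟨c, congrArg ULift.up h⟩ : qpt T' x' ⟶ qpt T x)

theorem chartMor_id : chartMor (A := A) (𝟙 (CoactBr.sp R B)) = 𝟙 (x0 R A B) :=
  AlgSt.QuotObj.hom_ext rfl (MonoidalCategory.whiskerLeft_id _ _)

theorem overMor_chartMor (c : T' ⟶ T) {x : T ⟶ CoactBr.sp R B} {x' : T' ⟶ CoactBr.sp R B} (h : c ≫ x = x') :
    overMor (A := A) c h ≫ chartMor x = chartMor x' := by
  refine AlgSt.QuotObj.hom_ext h ?_
  show (CoactBr.sp R A ◁ c) ≫ (CoactBr.sp R A ◁ x) = CoactBr.sp R A ◁ x'
  rw [← MonoidalCategory.whiskerLeft_comp, h]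

theorem overMor_movMor (c : T' ⟶ T) {x : T ⟶ CoactBr.sp R B} {x' : T' ⟶ CoactBr.sp R B} (h : c ≫ x = x')
    (g : T ⟶ CoactBr.sp R A) : overMor (A := A) c h ≫ movMor x g = movMor x' (c ≫ g) := by
  refine AlgSt.QuotObj.hom_ext ?_ ?_
  · show c ≫ dot x g = dot x' (c ≫ g)
    rw [comp_dot, h]
  · show (CoactBr.sp R A ◁ c) ≫ lift (fst _ T * (snd _ T ≫ g)) (snd _ T ≫ dot x g) =
      lift (fst _ T' * (snd _ T' ≫ c ≫ g)) (snd _ T' ≫ dot x' (c ≫ g))
    rw [comp_lift, MonObj.comp_mul, whiskerLeft_fst, ← Category.assoc, whiskerLeft_snd, Category.assoc,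
      ← Category.assoc _ (snd _ T), whiskerLeft_snd, Category.assoc, comp_dot c x g, h]

theorem movMor_one (x : T ⟶ CoactBr.sp R B) : movMor x (1 : T ⟶ CoactBr.sp R A) = chartMor x := by
  refine AlgSt.QuotObj.hom_ext (dot_one x) ?_
  show lift (fst _ T * (snd _ T ≫ (1 : T ⟶ CoactBr.sp R A))) (snd _ T ≫ dot x 1) = CoactBr.sp R A ◁ x
  rw [MonObj.comp_one, _root_.mul_one, dot_one]
  exact CartesianMonoidalCategory.hom_ext _ _ (by simp) (by simp)

/-- The translation between trivial objects on one scheme. -/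
def transMor (x : T ⟶ CoactBr.sp R B) (g : T ⟶ CoactBr.sp R A) : pObj (A := A) x ⟶ pObj (A := A) (dot x g) :=
  quotMor (𝟙 T) g (by rw [Category.id_comp]; exact (act_eq_iff g (dot x g) x).2 rfl)

theorem transMor_chartMor (x : T ⟶ CoactBr.sp R B) (g : T ⟶ CoactBr.sp R A) :
    transMor x g ≫ chartMor (dot x g) = movMor x g := by
  refine AlgSt.QuotObj.hom_ext ?_ ?_
  · show 𝟙 T ≫ dot x g = dot x g
    exact Category.id_comp (dot x g)
  · show lift (fst (CoactBr.sp R A) T * (snd (CoactBr.sp R A) T ≫ g)) (snd (CoactBr.sp R A) T ≫ 𝟙 T) ≫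
        (CoactBr.sp R A ◁ dot x g) =
      lift (fst (CoactBr.sp R A) T * (snd (CoactBr.sp R A) T ≫ g)) (snd (CoactBr.sp R A) T ≫ dot x g)
    rw [lift_whiskerLeft, Category.comp_id]

theorem transMor_movMor (x : T ⟶ CoactBr.sp R B) (g h : T ⟶ CoactBr.sp R A) :
    transMor x g ≫ movMor (dot x g) h = movMor x (g * h) := by
  refine AlgSt.QuotObj.hom_ext ?_ ?_
  · show 𝟙 T ≫ dot (dot x g) h = dot x (g * h)
    rw [Category.id_comp, dot_dot]
  show lift (fst (CoactBr.sp R A) T * (snd (CoactBr.sp R A) T ≫ g)) (snd (CoactBr.sp R A) T ≫ 𝟙 T) ≫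
      lift (fst (CoactBr.sp R A) T * (snd (CoactBr.sp R A) T ≫ h)) (snd (CoactBr.sp R A) T ≫ dot (dot x g) h) =
    lift (fst (CoactBr.sp R A) T * (snd (CoactBr.sp R A) T ≫ (g * h))) (snd (CoactBr.sp R A) T ≫ dot x (g * h))
  rw [comp_lift, MonObj.comp_mul, lift_fst, lift_snd_assoc, lift_snd_assoc, Category.comp_id, dot_dot, MonObj.comp_mul,
    _root_.mul_assoc]

end Mor

variable (F : StMod.QCoh (Qst R A B))

/-- The sections over the standard chart. -/
def Sec0 : Type u := Γ(F.obj.obj (x0 R A B), ⊤)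

instance : AddCommGroup (Sec0 F) := inferInstanceAs (AddCommGroup Γ(F.obj.obj (x0 R A B), ⊤))

instance : Module Γ((CoactBr.sp R B).left, ⊤) (Sec0 F) :=
  inferInstanceAs (Module Γ(StMod.sch (Qst R A B) (x0 R A B), ⊤) Γ(F.obj.obj (x0 R A B), ⊤))

instance : Module B (Sec0 F) := Module.compHom _ (ev (𝟙 (CoactBr.sp R B)))

instance : Module R (Sec0 F) := Module.compHom _ (algebraMap R B)

instance : IsScalarTower R B (Sec0 F) :=
  ⟨fun r b s => by rw [Algebra.smul_def]; exact mul_smul _ _ _⟩

variable {F}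

/-- The pullback of a section to a trivial object. -/
abbrev res0 (x : T ⟶ CoactBr.sp R B) : Sec0 F →+ Γ(F.obj.obj (pObj (A := A) x), ⊤) := trT F.obj (chartMor x)

theorem res0_smul (x : T ⟶ CoactBr.sp R B) (b : B) (s : Sec0 F) :
    res0 x (b • s) = (show Γ(StMod.sch (Qst R A B) (pObj (A := A) x), ⊤) from ev x b) • res0 x s := by
  refine (trT_smul F.obj (chartMor x) (ev (𝟙 (CoactBr.sp R B)) b) s).trans ?_
  refine congrArg (fun k : Γ(StMod.sch (Qst R A B) (pObj (A := A) x), ⊤) => k • res0 x s) ?_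
  show x.left.appTop.hom (ev (𝟙 (CoactBr.sp R B)) b) = ev x b
  rw [← ev_comp, Category.comp_id]

section Gen

variable {A' : Type u} [CommRing A'] [Algebra R A']

/-- The evaluation of a tensor at a point and a ring map. -/
def evT (x : T ⟶ CoactBr.sp R B) (g : T ⟶ CoactBr.sp R A') :
    Sec0 F ⊗[R] A' →+ Γ(F.obj.obj (pObj (A := A) x), ⊤) :=
  TensorProduct.liftAddHom
    (AddMonoidHom.mk' (fun t => AddMonoidHom.mk'
        (fun a => (show Γ(StMod.sch (Qst R A B) (pObj (A := A) x), ⊤) from ev g a) • res0 x t)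
        fun a a' => (congrArg (fun k : Γ(StMod.sch (Qst R A B) (pObj (A := A) x), ⊤) => k • res0 x t)
          (map_add (ev g) a a')).trans (add_smul _ _ _))
      fun t t' => AddMonoidHom.ext fun a => by
        show (show Γ(StMod.sch (Qst R A B) (pObj (A := A) x), ⊤) from ev g a) • res0 x (t + t') = _ + _
        rw [map_add, smul_add]
        rfl)
    fun r t a => by
      show (show Γ(StMod.sch (Qst R A B) (pObj (A := A) x), ⊤) from ev g a) • res0 x (algebraMap R B r • t) =
        (show Γ(StMod.sch (Qst R A B) (pObj (A := A) x), ⊤) from ev g (r • a)) • res0 x t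
      rw [res0_smul, smul_smul]
      refine congrArg (fun k : Γ(StMod.sch (Qst R A B) (pObj (A := A) x), ⊤) => k • res0 x t) ?_
      show ev g a * ev x (algebraMap R B r) = ev g (r • a)
      rw [Algebra.smul_def, map_mul, ev_algebraMap, ev_algebraMap, mul_comm]

theorem evT_tmul (x : T ⟶ CoactBr.sp R B) (g : T ⟶ CoactBr.sp R A') (t : Sec0 F) (a : A') :
    evT x g (t ⊗ₜ[R] a) = (show Γ(StMod.sch (Qst R A B) (pObj (A := A) x), ⊤) from ev g a) • res0 x t := rfl

theorem trT_evT (c : T' ⟶ T) {x : T ⟶ CoactBr.sp R B} {x' : T' ⟶ CoactBr.sp R B} (h : c ≫ x = x')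
    (g : T ⟶ CoactBr.sp R A') (w : Sec0 F ⊗[R] A') :
    trT F.obj (overMor (A := A) c h) (evT x g w) = evT x' (c ≫ g) w := by
  induction w using TensorProduct.induction_on with
  | zero => simp only [map_zero]
  | add w w' hw hw' => simp only [map_add, hw, hw']
  | tmul t a =>
    rw [evT_tmul, evT_tmul]
    refine (trT_smul F.obj (overMor (A := A) c h) _ _).trans ?_
    exact congrArg₂ (fun (k : Γ(StMod.sch (Qst R A B) (pObj (A := A) x'), ⊤))
      (y : Γ(F.obj.obj (pObj (A := A) x'), ⊤)) => k • y) (ev_comp c g a).symm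
      ((trT_comp F.obj (overMor (A := A) c h) (chartMor x) t).trans (trT_congr F.obj (overMor_chartMor c h) t))

variable (A') in
/-- The coordinate points of the product with an affine scheme. -/
abbrev inlG : CoactBr.sp R (B ⊗[R] A') ⟶ CoactBr.sp R B :=
  CoactBr.pt (Algebra.TensorProduct.includeLeft : B →ₐ[R] B ⊗[R] A')

variable (A') in
/-- The second coordinate point. -/
abbrev inrG : CoactBr.sp R (B ⊗[R] A') ⟶ CoactBr.sp R A' :=
  CoactBr.pt (Algebra.TensorProduct.includeRight : A' →ₐ[R] B ⊗[R] A')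

theorem evT_surjective :
    Function.Surjective (evT (F := F) (inlG (B := B) A') (inrG (B := B) A')) := by
  haveI : IsAffine (StMod.sch (Qst R A B) (x0 R A B)) := (a0 R A B).aff
  haveI : IsAffine (StMod.sch (Qst R A B) (pObj (A := A) (inlG (B := B) A'))) :=
    inferInstanceAs (IsAffine (Spec (CommRingCat.of (B ⊗[R] A'))))
  intro y
  refine top_induction F (chartMor (inlG (B := B) A')) (p := fun y => ∃ w, evT _ (inrG (B := B) A') w = y) ⟨0, map_zero _⟩ ?_
    (fun r t => ?_) y
  · rintro a b ⟨w, rfl⟩ ⟨w', rfl⟩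
    exact ⟨w + w', map_add _ _ _⟩
  · obtain ⟨q, rfl⟩ : ∃ q, ev (𝟙 (CoactBr.sp R (B ⊗[R] A'))) q = r := ⟨_, ev_id_gl r⟩
    induction q using TensorProduct.induction_on with
    | zero => exact ⟨0, by rw [map_zero, map_zero]; exact (zero_smul _ _).symm⟩
    | add q q' hq hq' =>
      obtain ⟨w, hw⟩ := hq
      obtain ⟨w', hw'⟩ := hq'
      refine ⟨w + w', ?_⟩
      rw [map_add, hw, hw', map_add]
      exact (add_smul _ _ _).symm
    | tmul b a =>
      refine ⟨(b • (show Sec0 F from t)) ⊗ₜ[R] a, ?_⟩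
      rw [evT_tmul, res0_smul, smul_smul]
      refine congrArg (fun k : Γ(StMod.sch (Qst R A B) (pObj (A := A) (inlG (B := B) A')), ⊤) => k • res0 _ (show Sec0 F from t)) ?_
      show ev (inrG (B := B) A') a * ev (inlG (B := B) A') b = ev (𝟙 _) (b ⊗ₜ[R] a)
      rw [show ev (inrG (B := B) A') a = ev (𝟙 _) ((Algebra.TensorProduct.includeRight : A' →ₐ[R] B ⊗[R] A') a) by
          rw [← ev_pt, Category.id_comp],
        show ev (inlG (B := B) A') b = ev (𝟙 _) ((Algebra.TensorProduct.includeLeft : B →ₐ[R] B ⊗[R] A') b) by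
          rw [← ev_pt, Category.id_comp],
        ← map_mul]
      congr 1
      simp

variable (A') in
/-- The factorwise action of the product ring on a tensor. -/
def gsm (M : Type u) [AddCommGroup M] [Module R M] [Module B M] [IsScalarTower R B M] :
    B ⊗[R] A' →ₗ[R] M ⊗[R] A' →ₗ[R] M ⊗[R] A' :=
  TensorProduct.map₂ (Algebra.lsmul R R M : B →ₐ[R] Module.End R M).toLinearMap (LinearMap.mul R A')

theorem gsm_tmul (M : Type u) [AddCommGroup M] [Module R M] [Module B M] [IsScalarTower R B M] (b : B) (a : A') (m : M)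
    (a' : A') : gsm A' M (b ⊗ₜ[R] a) (m ⊗ₜ[R] a') = (b • m) ⊗ₜ[R] (a * a') := by
  simp [gsm]

theorem exists_evT_leftInverse :
    ∃ L : Γ(F.obj.obj (pObj (A := A) (inlG (B := B) A')), ⊤) → Sec0 F ⊗[R] A',
      Function.LeftInverse L (evT (inlG (B := B) A') (inrG (B := B) A')) := by
  haveI : IsAffine (StMod.sch (Qst R A B) (x0 R A B)) := (a0 R A B).aff
  haveI : IsAffine (StMod.sch (Qst R A B) (pObj (A := A) (inlG (B := B) A'))) :=
    inferInstanceAs (IsAffine (Spec (CommRingCat.of (B ⊗[R] A'))))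
  let x := inlG (R := R) (B := B) A'
  letI : Module Γ(StMod.sch (Qst R A B) (pObj (A := A) x), ⊤) (MT (Sec0 F) x) :=
    inferInstanceAs (Module (Al x) (MT (Sec0 F) x))
  let f : Γ(F.obj.obj (x0 R A B), ⊤) →+ MT (Sec0 F) x :=
    AddMonoidHom.mk' (fun s => tm (Sec0 F) x 1 (show Sec0 F from s)) fun s s' =>
      TensorProduct.tmul_add (show Al x from (1 : Γ((CoactBr.sp R (B ⊗[R] A')).left, ⊤))) (show Sec0 F from s)
        (show Sec0 F from s')
  obtain ⟨l, hl, -⟩ := exists_lin F (chartMor x) f fun r s => by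
    obtain ⟨b, rfl⟩ : ∃ b, ev (𝟙 (CoactBr.sp R B)) b = r := ⟨_, ev_id_gl r⟩
    show tm (Sec0 F) x 1 (b • (show Sec0 F from s)) =
      (show Al x from x.left.appTop.hom (ev (𝟙 (CoactBr.sp R B)) b)) • tm (Sec0 F) x 1 (show Sec0 F from s)
    rw [tm_balance, smul_tm, ← ev_comp, Category.comp_id]
  let δ : MT (Sec0 F) x →+ Sec0 F ⊗[R] A' :=
    TensorProduct.liftAddHom
      (AddMonoidHom.mk' (fun k => AddMonoidHom.mk'
          (fun s => gsm A' (Sec0 F) (gl (B ⊗[R] A') k) (s ⊗ₜ[R] (1 : A')))
          fun s s' => by rw [TensorProduct.add_tmul, map_add])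
        fun k k' => AddMonoidHom.ext fun s => by
          show gsm A' (Sec0 F) (gl (B ⊗[R] A') _) (s ⊗ₜ[R] (1 : A')) = _ + _
          exact (congrArg (fun q => gsm A' (Sec0 F) q (s ⊗ₜ[R] (1 : A'))) (map_add (gl (B ⊗[R] A')) _ _)).trans
            (by rw [map_add]; rfl))
      fun b k s => by
        show gsm A' (Sec0 F)
            (gl (B ⊗[R] A') (ev x b * (show Γ((CoactBr.sp R (B ⊗[R] A')).left, ⊤) from k))) (s ⊗ₜ[R] (1 : A')) =
          gsm A' (Sec0 F) (gl (B ⊗[R] A') k) ((b • s) ⊗ₜ[R] (1 : A'))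
        rw [map_mul, gl_ev_pt]
        generalize gl (R := R) (B ⊗[R] A') k = t
        induction t using TensorProduct.induction_on with
        | zero => simp
        | add t t' ht ht' => simp only [mul_add, map_add, LinearMap.add_apply, ht, ht']
        | tmul b' a =>
          rw [Algebra.TensorProduct.includeLeft_apply, Algebra.TensorProduct.tmul_mul_tmul, gsm_tmul,
            gsm_tmul, _root_.one_mul, smul_smul, mul_comm b' b]
  refine ⟨fun y => δ (l y), fun w => ?_⟩
  induction w using TensorProduct.induction_on with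
  | zero => simp only [map_zero]
  | add w w' hw hw' => simp only [map_add, hw, hw']
  | tmul t a =>
    simp only [evT_tmul, res0, map_smul]
    refine (congrArg δ (congrArg (fun y : MT (Sec0 F) x => (show Al x from ev (inrG (B := B) A') a) • y) (hl t))).trans ?_
    show δ ((show Al x from ev (inrG (B := B) A') a) • tm (Sec0 F) x 1 t) = _
    rw [smul_tm, _root_.mul_one]
    show gsm A' (Sec0 F) (gl (B ⊗[R] A') (ev (inrG (B := B) A') a)) (t ⊗ₜ[R] (1 : A')) = _
    rw [gl_ev_pt, Algebra.TensorProduct.includeRight_apply, gsm_tmul, one_smul, _root_.mul_one]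

theorem evT_bijective :
    Function.Bijective (evT (F := F) (inlG (B := B) A') (inrG (B := B) A')) := by
  obtain ⟨L, hL⟩ := exists_evT_leftInverse (F := F) (A' := A')
  exact ⟨hL.injective, evT_surjective⟩

end Gen

section Coact

variable (F) in
/-- The tensors with the group ring as the sections over the product. -/
def evEquiv : Sec0 F ⊗[R] A ≃+ Γ(F.obj.obj (o1 R A B), ⊤) :=
  AddEquiv.ofBijective (evT (inlPt R A B) (inrPt R A B)) evT_bijective

variable (F) in
/-- The coaction on the sections over the standard chart. -/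
def coact0 : Sec0 F →ₗ[R] Sec0 F ⊗[R] A where
  toFun s := (evEquiv F).symm (trT F.obj (actMor R A B) s)
  map_add' s s' := (congrArg (evEquiv F).symm (map_add (trT F.obj (actMor R A B)) s s')).trans (map_add _ _ _)
  map_smul' r s := by
    refine (evEquiv F).injective ?_
    rw [AddEquiv.apply_symm_apply, RingHom.id_apply]
    refine (trT_smul F.obj (actMor R A B) (ev (𝟙 (CoactBr.sp R B)) (algebraMap R B r)) s).trans ?_
    have key : ∀ w, evEquiv F (r • w) =
        (show Γ(StMod.sch (Qst R A B) (o1 R A B), ⊤) from str (CoactBr.sp R (B ⊗[R] A)) r) • evEquiv F w := by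
      intro w
      induction w using TensorProduct.induction_on with
      | zero => simp only [smul_zero, map_zero]
      | add w w' hw hw' => simp only [smul_add, map_add, hw, hw']
      | tmul t a =>
        rw [← TensorProduct.tmul_smul]
        show evT _ _ (t ⊗ₜ[R] (r • a)) = _ • evT _ _ (t ⊗ₜ[R] a)
        rw [evT_tmul, evT_tmul, smul_smul]
        refine congrArg (fun k : Γ(StMod.sch (Qst R A B) (o1 R A B), ⊤) => k • res0 (inlPt R A B) t) ?_
        show ev (inrPt R A B) (r • a) = str (CoactBr.sp R (B ⊗[R] A)) r * ev (inrPt R A B) a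
        rw [Algebra.smul_def, map_mul, ev_algebraMap]
    rw [key, AddEquiv.apply_symm_apply]
    refine congrArg (fun k : Γ(StMod.sch (Qst R A B) (o1 R A B), ⊤) => k • trT F.obj (actMor R A B) s) ?_
    show (dot (inlPt R A B) (inrPt R A B)).left.appTop.hom _ = str (CoactBr.sp R (B ⊗[R] A)) r
    rw [← ev_comp, Category.comp_id, ev_algebraMap]

theorem trT_movMor (x : T ⟶ CoactBr.sp R B) (g : T ⟶ CoactBr.sp R A) (s : Sec0 F) :
    trT F.obj (movMor x g) s = evT x g (coact0 F s) := by
  have h : pair x g ≫ inlPt R A B = x := pair_fst x g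
  have h' : pair x g ≫ inrPt R A B = g := pair_snd x g
  have e : trT F.obj (overMor (A := A) (pair x g) h) (trT F.obj (actMor R A B) s) =
      trT F.obj (movMor x g) s := by
    rw [trT_comp, actMor, overMor_movMor (pair x g) h, h']
  rw [← e, show trT F.obj (actMor R A B) s = evT (inlPt R A B) (inrPt R A B) (coact0 F s) from
    ((evEquiv F).apply_symm_apply _).symm, trT_evT, h']

theorem evT_one (w : Sec0 F ⊗[R] A) (x : T ⟶ CoactBr.sp R B) :
    evT x (1 : T ⟶ CoactBr.sp R A) w =
      res0 x (TensorProduct.rid R (Sec0 F) ((CoalgebraStruct.counit (R := R) (A := A)).lTensor (Sec0 F) w)) := by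
  induction w using TensorProduct.induction_on with
  | zero => simp only [map_zero]
  | add w w' hw hw' => simp only [map_add, hw, hw']
  | tmul t a =>
    rw [evT_tmul, LinearMap.lTensor_tmul, TensorProduct.rid_tmul, ← algebraMap_smul B (CoalgebraStruct.counit (R := R) a) t, res0_smul, ev_one x,
      ev_algebraMap]

theorem res0_id (s : Sec0 F) : res0 (𝟙 (CoactBr.sp R B)) s = s :=
  (trT_congr F.obj chartMor_id s).trans (trT_id F.obj (x0 R A B) s)

theorem coact0_counit :
    (CoalgebraStruct.counit (R := R) (A := A)).lTensor (Sec0 F) ∘ₗ coact0 F =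
      (TensorProduct.mk R (Sec0 F) R).flip 1 := by
  refine LinearMap.ext fun s => (TensorProduct.rid R (Sec0 F)).injective ?_
  rw [LinearMap.comp_apply, LinearMap.flip_apply, TensorProduct.mk_apply, TensorProduct.rid_tmul, one_smul]
  rw [← res0_id (TensorProduct.rid R _ _), ← evT_one, ← trT_movMor, movMor_one]
  exact res0_id s

theorem trT_transMor (x : T ⟶ CoactBr.sp R B) (g h : T ⟶ CoactBr.sp R A) (t : Sec0 F) (a : A) :
    trT F.obj (transMor x g) (evT (dot x g) h (t ⊗ₜ[R] a)) =
      (show Γ(StMod.sch (Qst R A B) (pObj (A := A) x), ⊤) from ev h a) • evT x g (coact0 F t) := by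
  rw [evT_tmul]
  refine (trT_smul F.obj (transMor x g) _ _).trans ?_
  refine congrArg₂ (fun (k : Γ(StMod.sch (Qst R A B) (pObj (A := A) x), ⊤))
    (y : Γ(F.obj.obj (pObj (A := A) x), ⊤)) => k • y) ?_ ?_
  · show (Over.Hom.left (𝟙 T)).appTop.hom (ev h a) = ev h a
    rw [← ev_comp, Category.id_comp]
  · exact (trT_comp F.obj (transMor x g) (chartMor (dot x g)) t).trans
      ((trT_congr F.obj (transMor_chartMor x g) t).trans (trT_movMor x g t))

theorem coact0_coassoc :
    (TensorProduct.assoc R (Sec0 F) A A).toLinearMap ∘ₗ (coact0 F).rTensor A ∘ₗ coact0 F =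
      (CoalgebraStruct.comul (R := R) (A := A)).lTensor (Sec0 F) ∘ₗ coact0 F := by
  let x := inlG (R := R) (B := B) (A ⊗[R] A)
  let g : CoactBr.sp R (B ⊗[R] (A ⊗[R] A)) ⟶ CoactBr.sp R A :=
    inrG (B := B) (A ⊗[R] A) ≫ CoactBr.pt (Algebra.TensorProduct.includeLeft : A →ₐ[R] A ⊗[R] A)
  let h : CoactBr.sp R (B ⊗[R] (A ⊗[R] A)) ⟶ CoactBr.sp R A :=
    inrG (B := B) (A ⊗[R] A) ≫ CoactBr.pt (Algebra.TensorProduct.includeRight : A →ₐ[R] A ⊗[R] A)
  have hgh : ∀ c, ev (pair g h) c = ev (inrG (B := B) (A ⊗[R] A)) c := by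
    intro c
    induction c using TensorProduct.induction_on with
    | zero => simp only [map_zero]
    | add c c' hc hc' => simp only [map_add, hc, hc']
    | tmul a a' =>
      rw [ev_pair, ev_pt, ev_pt, ← map_mul]
      congr 1
      simp
  refine LinearMap.ext fun s => (evT_bijective (F := F) (A' := A ⊗[R] A)).1 ?_
  have e1 : trT F.obj (movMor x (g * h)) s =
      evT x (inrG (B := B) (A ⊗[R] A))
        ((CoalgebraStruct.comul (R := R) (A := A)).lTensor (Sec0 F) (coact0 F s)) := by
    rw [trT_movMor]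
    generalize coact0 F s = w
    induction w using TensorProduct.induction_on with
    | zero => simp only [map_zero]
    | add w w' hw hw' => simp only [map_add, hw, hw']
    | tmul t a => rw [LinearMap.lTensor_tmul, evT_tmul, evT_tmul, ev_mul, hgh]
  have key : ∀ (a : A) (v : Sec0 F ⊗[R] A),
      (show Γ(StMod.sch (Qst R A B) (pObj (A := A) x), ⊤) from ev h a) • evT x g v =
        evT x (inrG (B := B) (A ⊗[R] A)) (TensorProduct.assoc R (Sec0 F) A A (v ⊗ₜ[R] a)) := by
    intro a v
    induction v using TensorProduct.induction_on with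
    | zero => simp only [map_zero, smul_zero, TensorProduct.zero_tmul]
    | add v v' hv hv' => simp only [map_add, smul_add, TensorProduct.add_tmul, hv, hv']
    | tmul t' a' =>
      refine (congrArg (fun y : Γ(F.obj.obj (pObj (A := A) x), ⊤) =>
        (show Γ(StMod.sch (Qst R A B) (pObj (A := A) x), ⊤) from ev h a) • y) (evT_tmul x g t' a')).trans ?_
      refine Eq.trans ?_ ((congrArg (evT x (inrG (B := B) (A ⊗[R] A))) (TensorProduct.assoc_tmul t' a' a)).trans
        (evT_tmul x (inrG (B := B) (A ⊗[R] A)) t' (a' ⊗ₜ[R] a))).symm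
      refine (smul_smul _ _ _).trans ?_
      refine congrArg (fun k : Γ(StMod.sch (Qst R A B) (pObj (A := A) x), ⊤) => k • res0 x t') ?_
      exact ((hgh (a' ⊗ₜ[R] a)).symm.trans ((ev_pair g h a' a).trans (mul_comm _ _))).symm
  have key2 : ∀ w : Sec0 F ⊗[R] A, trT F.obj (transMor x g) (evT (dot x g) h w) =
      evT x (inrG (B := B) (A ⊗[R] A)) (TensorProduct.assoc R (Sec0 F) A A ((coact0 F).rTensor A w)) := by
    intro w
    induction w using TensorProduct.induction_on with
    | zero => simp only [map_zero]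
    | add w w' hw hw' => simp only [map_add, hw, hw']
    | tmul t a =>
      refine (trT_transMor x g h t a).trans ?_
      refine Eq.trans ?_ (congrArg (fun v => evT x (inrG (B := B) (A ⊗[R] A)) (TensorProduct.assoc R (Sec0 F) A A v))
        (LinearMap.rTensor_tmul A (coact0 F) a t)).symm
      exact key a (coact0 F t)
  have e2 : trT F.obj (movMor x (g * h)) s =
      evT x (inrG (B := B) (A ⊗[R] A))
        (TensorProduct.assoc R (Sec0 F) A A ((coact0 F).rTensor A (coact0 F s))) :=
    ((trT_congr F.obj (transMor_movMor x g h) s).symm.trans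
      ((trT_comp F.obj (transMor x g) (movMor (dot x g) h) s).symm.trans
        (congrArg (trT F.obj (transMor x g)) (trT_movMor (dot x g) h s)))).trans (key2 (coact0 F s))
  exact e2.symm.trans e1

instance comod0 : HopfRep.Comod R A (Sec0 F) :=
  ⟨coact0 F, coact0_coassoc, coact0_counit⟩

theorem coact_eq (s : Sec0 F) : HopfRep.Comod.coact (k := R) (A := A) s = coact0 F s := rfl

instance isHopfMod0 : TameAct.IsHopfMod R A B (Sec0 F) := ⟨fun b s => by
  refine (evT_bijective (F := F) (A' := A)).1 ?_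
  rw [coact_eq, coact_eq, ← trT_movMor]
  have key : ∀ (q : B ⊗[R] A) (w : Sec0 F ⊗[R] A),
      evT (inlPt R A B) (inrPt R A B) (TameAct.hmSMul R A B (Sec0 F) q w) =
        (show Γ(StMod.sch (Qst R A B) (o1 R A B), ⊤) from ev (pair (inlPt R A B) (inrPt R A B)) q) •
          evT (inlPt R A B) (inrPt R A B) w := by
    intro q w
    induction q using TensorProduct.induction_on with
    | zero => simp only [map_zero, LinearMap.zero_apply]; exact (zero_smul _ _).symm
    | add q q' hq hq' =>
      simp only [map_add, LinearMap.add_apply, hq, hq']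
      exact (add_smul _ _ _).symm
    | tmul b a =>
      induction w using TensorProduct.induction_on with
      | zero => simp only [map_zero, smul_zero]
      | add w w' hw hw' => simp only [map_add, hw, hw', smul_add]
      | tmul t a' =>
        rw [TameAct.hmSMul_tmul, evT_tmul, evT_tmul, res0_smul, smul_smul, smul_smul]
        refine congrArg (fun k : Γ(StMod.sch (Qst R A B) (o1 R A B), ⊤) => k • res0 (inlPt R A B) t) ?_
        show ev (inrPt R A B) (a * a') * ev (inlPt R A B) b =
          ev (pair (inlPt R A B) (inrPt R A B)) (b ⊗ₜ[R] a) * ev (inrPt R A B) a'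
        rw [ev_pair, map_mul]
        ring
  rw [key, ← trT_movMor]
  refine (trT_smul F.obj (movMor (inlPt R A B) (inrPt R A B)) (ev (𝟙 (CoactBr.sp R B)) b) s).trans ?_
  refine congrArg (fun k : Γ(StMod.sch (Qst R A B) (o1 R A B), ⊤) =>
    k • trT F.obj (movMor (inlPt R A B) (inrPt R A B)) s) ?_
  show (dot (inlPt R A B) (inrPt R A B)).left.appTop.hom _ = ev (pair _ _) _
  rw [← ev_comp, Category.comp_id, ev_dot]⟩

theorem mem_fixedPts_iff (s : Sec0 F) :
    s ∈ HopfRep.fixedPts R A (Sec0 F) ↔ trT F.obj (actMor R A B) s = trT F.obj (projMor R A B) s := by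
  have h1 : trT F.obj (projMor R A B) s = evT (inlPt R A B) (inrPt R A B) (s ⊗ₜ[R] (1 : A)) := by
    rw [evT_tmul, map_one]
    exact (one_smul _ _).symm
  have h2 : trT F.obj (actMor R A B) s = evT (inlPt R A B) (inrPt R A B) (coact0 F s) :=
    ((evEquiv F).apply_symm_apply _).symm
  rw [h1, h2, (evT_bijective (F := F) (A' := A)).1.eq_iff]
  rfl

variable {G : StMod.QCoh (Qst R A B)}

/-- The map on sections over the standard chart of a morphism of modules. -/
def map0 (v : F ⟶ G) : Sec0 F →ₗ[B] Sec0 G where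
  toFun s := (v.hom.app (x0 R A B)).app ⊤ s
  map_add' s s' := map_add ((v.hom.app (x0 R A B)).app ⊤).hom s s'
  map_smul' b s := Scheme.Modules.Hom.app_smul (v.hom.app (x0 R A B)) (ev (𝟙 (CoactBr.sp R B)) b) s

theorem isComodHom_map0 (v : F ⟶ G) : Hoch.IsComodHom A ((map0 v).restrictScalars R) := by
  refine LinearMap.ext fun s => (evT_bijective (F := G) (A' := A)).1 ?_
  show evT _ _ (coact0 G (map0 v s)) = evT _ _ (((map0 v).restrictScalars R).rTensor A (coact0 F s))
  rw [← trT_movMor]
  refine (tr_hom v.hom _ ⊤ ⊤ (top_le _) s).trans ?_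
  show (v.hom.app (o1 R A B)).app ⊤ (trT F.obj (movMor (inlPt R A B) (inrPt R A B)) s) = _
  rw [trT_movMor]
  generalize coact0 F s = w
  induction w using TensorProduct.induction_on with
  | zero => simp only [map_zero]
  | add w w' hw hw' => simp only [map_add, hw, hw']
  | tmul t a =>
    rw [LinearMap.rTensor_tmul, evT_tmul, evT_tmul, Scheme.Modules.Hom.app_smul]
    exact congrArg _ (tr_hom v.hom (chartMor (inlPt R A B)) ⊤ ⊤ (top_le _) t).symm

end Coact

end Groth.Agent.HopfSt
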