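import Mathlib
import Groth.Agent.HopfSt.FromStack
import Groth.Agent.HopfSt.Converse

/-!
# Exactness of sections from exactness of invariants
-/

universe u

open CategoryTheory CategoryTheory.Limits MonoidalCategory CartesianMonoidalCategory AlgebraicGeometry Opposite
open scoped TensorProduct MonObj

set_option autoImplicit false
set_option backward.isDefEq.respectTransparency false
set_option backward.isDefEq.respectTransparency.types false
set_option linter.style.haveILetI false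
set_option linter.unusedSectionVars false

noncomputable section

namespace Groth.Agent.HopfSt

open Groth.Agent.RelGen Groth.Agent.AlgStLib Groth.Agent.QC Groth.Agent.QDescent

local notation "AS" => AlgSt.IsAlgStack Scheme.fppfPrecoverage

variable {R A B : Type u} [CommRing R] [CommRing A] [HopfAlgebra R A] [CommRing B] [Algebra R B]
  [HopfRep.Comod R A B] [GLin.IsCoactAlg R A B] {F G : StMod.QCoh (Qst R A B)}

/-- An invariant section pulls back equally along all morphisms to the standard chart. -/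
theorem trT_eq_of_fixed {s : Sec0 F} (hs : s ∈ HopfRep.fixedPts R A (Sec0 F)) {x' : (Qst R A B).obj}
    (d d' : x' ⟶ x0 R A B) : trT F.obj d s = trT F.obj d' s := by
  have hg : FibCat.IsFibGrpd (Qst R A B).p := Quot.isFibGrpd (CoactBr.sp R A) (CoactBr.action R A B)
  let y : AlgSt.QuotObj.base x' ⟶ CoactBr.sp R B := AlgSt.QuotObj.Hom.base d
  let c₀ : pObj (A := A) y ⟶ x0 R A B := chartMor y
  obtain ⟨k, ⟨hk, hkd⟩, -⟩ := Groth.Agent.FibCatRep.existsUnique_cart hg d c₀ (𝟙 (AlgSt.QuotObj.base x'))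
    (show 𝟙 _ ≫ AlgSt.QuotObj.Hom.base d = y from Category.id_comp _)
  haveI : IsIso ((Qst R A B).p.map k) := by
    rw [hk]
    exact inferInstanceAs (IsIso (𝟙 (AlgSt.QuotObj.base x')))
  haveI : IsIso k := FibCatRep.isIso_of_map hg k
  have hinj : ∀ a b, trT F.obj k a = trT F.obj k b → a = b := fun a b h => by
    have h' := congrArg (trT F.obj (inv k)) h
    rwa [trT_comp, trT_comp, trT_congr F.obj (IsIso.inv_hom_id k), trT_congr F.obj (IsIso.inv_hom_id k), trT_id,
      trT_id] at h'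
  refine hinj _ _ ?_
  rw [trT_comp, trT_comp, trT_congr F.obj hkd]
  obtain ⟨g, hg', htop⟩ := exists_quotMor (k ≫ d')
  let f : AlgSt.QuotObj.base x' ⟶ CoactBr.sp R B := AlgSt.QuotObj.Hom.base (k ≫ d')
  have hf : f = dot y g := (act_eq_iff g f y).1 (by rw [← Category.comp_id f]; exact hg')
  have hm : k ≫ d' = movMor y g := by
    refine AlgSt.QuotObj.hom_ext hf ?_
    refine htop.trans ?_
    show lift (fst _ _ * (snd _ _ ≫ g)) (snd _ _ ≫ f) = lift (fst _ _ * (snd _ _ ≫ g)) (snd _ _ ≫ dot y g)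
    rw [hf]
  have hp : pair y g ≫ inlPt R A B = y := pair_fst y g
  have h2 := congrArg (trT F.obj (overMor (A := A) (pair y g) hp)) ((mem_fixedPts_iff s).1 hs)
  rw [trT_comp, trT_comp] at h2
  have e1 : overMor (A := A) (pair y g) hp ≫ actMor R A B = movMor y g := by
    rw [actMor, overMor_movMor (pair y g) hp, show pair y g ≫ inrPt R A B = g from pair_snd y g]
  have e2 : overMor (A := A) (pair y g) hp ≫ projMor R A B = c₀ := overMor_chartMor (pair y g) hp
  rw [trT_congr F.obj e1, trT_congr F.obj e2] at h2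
  rw [trT_congr F.obj hm]
  exact h2.symm

variable [Module.Flat R A] [Algebra.FinitePresentation R A]

/-- Every object has an affine fppf cover by objects with morphisms to the standard chart. -/
theorem exists_hit_x0 (x : (Qst R A B).obj) (t : StMod.sch (Qst R A B) x) :
    ∃ (x' : (Qst R A B).obj) (φ : x' ⟶ x), IsAffine (StMod.sch (Qst R A B) x') ∧ Hits φ t ∧
      Nonempty (x' ⟶ x0 R A B) := by
  haveI := flat_sp R A
  haveI : LocallyOfFinitePresentation (CoactBr.sp R A).hom := lfp_sp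
  obtain ⟨h₁, h₂, h₃⟩ := Quot.fppf_π x
  let y : AlgSt.QuotObj.P x ⟶ CoactBr.sp R B := 𝟙 _ ≫ AlgSt.QuotObj.φ x
  let e : pObj (A := A) y ⟶ x := Quot.trivHom x (𝟙 _)
  have he : StMod.bmap (Qst R A B) e = (AlgSt.QuotObj.π x).left :=
    congrArg CommaMorphism.left (Category.id_comp (AlgSt.QuotObj.π x))
  have hit : Hits e t := ⟨by rw [he]; exact h₁, by rw [he]; exact h₃, by rw [he]; exact h₂.surj t⟩
  obtain ⟨x', c, haff, hhit, -⟩ :=
    exists_affine_hit (Quot.isFibGrpd (CoactBr.sp R A) (CoactBr.action R A B)) e hit (U := ⊤) trivial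
  exact ⟨x', c ≫ e, haff, hhit, ⟨c ≫ chartMor y⟩⟩

/-- Exactness of invariants gives exactness of the sections over the scheme below. -/
theorem surjAt_idObj {Y : Over (Spec (CommRingCat.of R))} (π : Qst R A B ⥤ᵇ AlgSt.ofSch Y)
    (h : ∀ (M N : Type u) [AddCommGroup M] [Module R M] [Module B M] [IsScalarTower R B M] [HopfRep.Comod R A M]
      [TameAct.IsHopfMod R A B M] [AddCommGroup N] [Module R N] [Module B N] [IsScalarTower R B N]
      [HopfRep.Comod R A N] [TameAct.IsHopfMod R A B N] (f : M →ₗ[B] N),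
      Hoch.IsComodHom A (f.restrictScalars R) → Function.Surjective f →
        ∀ n ∈ HopfRep.fixedPts R A N, ∃ m ∈ HopfRep.fixedPts R A M, f m = n)
    (v : F ⟶ G) (hv : StMod.Mod.IsSurj v.hom) : SurjAt π (idObj Y) v := by
  intro t
  let α₀ : π.obj (x0 R A B) ⟶ idObj Y := toIdObj _
  let t₀ : Sec0 G := t.1 (x0 R A B) α₀
  have ht₀ : t₀ ∈ HopfRep.fixedPts R A (Sec0 G) :=
    (mem_fixedPts_iff t₀).2 ((trT_relSect π t (actMor R A B) α₀ (toIdObj _)).trans
      (trT_relSect π t (projMor R A B) α₀ (toIdObj _)).symm)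
  obtain ⟨s₀, hs₀, hvs⟩ := h (Sec0 F) (Sec0 G) (map0 v) (isComodHom_map0 v) (hv (x0 R A B) (a0 R A B).aff) t₀ ht₀
  have hdata : LocData (M := StMod.OQ (Qst R A B)) (N := F) (fun x => ULift.{u + 1} (x ⟶ x0 R A B))
      fun x _ d => AddMonoidHom.mk' (fun r => (show Γ(StMod.sch (Qst R A B) x, ⊤) from r) • trT F.obj d.down s₀)
        (fun _ _ => add_smul _ _ _) :=
    { grpd := Quot.isFibGrpd (CoactBr.sp R A) (CoactBr.action R A B)
      pull := fun φ d => ⟨⟨φ ≫ d.down⟩⟩
      cov := fun x t => by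
        obtain ⟨x', φ, -, hφ, ⟨d⟩⟩ := exists_hit_x0 x t
        exact ⟨x', φ, hφ, ⟨⟨d⟩⟩⟩
      smul := fun x _ _ r a => mul_smul r (show Γ(StMod.sch (Qst R A B) x, ⊤) from a) _
      compat := fun {x' x} c hx hx' d d' a => by
        show trT F.obj c ((show Γ(StMod.sch (Qst R A B) x, ⊤) from a) • trT F.obj d.down s₀) = _
        rw [trT_smul, trT_comp, trT_eq_of_fixed hs₀ (c ≫ d.down) d'.down]
        exact congrArg (· • trT F.obj d'.down s₀) (trT_eq_map (StMod.OQ (Qst R A B)).obj c a).symm }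
  obtain ⟨φ, hφ⟩ := hdata.exists_hom
  let s : StMod.Mod.RelSect π F.obj (idObj Y) :=
    ⟨fun ξ _ => (φ.hom.app ξ).app ⊤ (oneSec _ ξ), fun ξ' ξ c α =>
      (trT_eq_map F.obj c _).symm.trans (trT_app_oneSec φ c)⟩
  refine ⟨s, StMod.Mod.RelSect.ext _ _ _ fun ξ α => RelGen.top_ext G fun p => ?_⟩
  obtain ⟨x', c, hx', hc, ⟨d⟩⟩ := exists_hit_x0 ξ p
  refine ⟨x', c, hc, ?_⟩
  show trT G.obj c ((v.hom.app ξ).app ⊤ ((φ.hom.app ξ).app ⊤ (oneSec _ ξ))) = trT G.obj c (t.1 ξ α)
  rw [trT_relSect π t c α (toIdObj _), ← trT_relSect π t d α₀ (toIdObj _)]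
  refine (tr_hom v.hom c ⊤ ⊤ (top_le c) _).trans ?_
  refine (congrArg ((v.hom.app x').app ⊤) ((trT_app_oneSec φ c).trans ((hφ x' hx' ⟨d⟩ _).trans (one_smul _ _)))).trans ?_
  exact (tr_hom v.hom d ⊤ ⊤ (top_le d) s₀).symm.trans (congrArg (trT G.obj d) hvs)

end Groth.Agent.HopfSt
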