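import Mathlib
import Groth.Agent.AlgStLib.QC2
import Groth.Agent.AlgStLib.Cancel
import Groth.Agent.QuotEtale.Main

/-!
# Morphisms from a quotient stack of an affine group to a separated scheme
-/

set_option autoImplicit false
set_option backward.isDefEq.respectTransparency false
set_option backward.isDefEq.respectTransparency.types false
set_option linter.style.haveILetI false
universe u

noncomputable section

namespace Groth.Agent.HopfSt

open CategoryTheory CategoryTheory.Limits MonoidalCategory AlgebraicGeometry Opposite Groth.Agent.FibCatRep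
  Groth.Agent.FibCat2Misc Groth.Agent.AlgSpLib Groth.Agent.StkBasic Groth.Agent.AlgStLib
open _root_.AlgSp _root_.AlgSt

variable {S : Scheme.{u}} {G X Y : Over S} [GrpObj G] {aX : AlgGrp.Action G X}

/-- Affine functors have affine diagonal. -/
theorem repWith_affine_diag_of_affine {𝒳 𝒴 : AlgSt.Cat S} {f : 𝒳 ⥤ᵇ 𝒴}
    (h : RepByAlgSpWith (RepWith (S := S) @IsAffineHom) f) :
    RepByAlgSpWith (RepWith (S := S) @IsAffineHom) (FibCat.diag f) := by
  refine repWith_diag_of_repWith h fun P U π hP hπ => ?_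
  refine repBySpWith_repWith hP
    (isAlgSpace_of_isPullback_space (IsAlgSpace.yon_obj U) hP hP (IsPullback.of_hasPullback π π)) _ ?_
  obtain ⟨V, v, p, sq⟩ := hπ.rep (𝟙 ((yon S).obj U))
  have hv : IsAffineHom v.left := hπ.property _ _ _ sq
  haveI : IsIso p := sq.isIso_fst_of_isIso
  have hp : π = inv p ≫ (yon S).map v := by
    rw [IsIso.eq_inv_comp, sq.w, Category.comp_id]
  rw [hp]
  refine (MorphismProperty.cancel_left_of_respectsIso
    (MorphismProperty.diagonal (RepWith (S := S) @IsAffineHom)) (inv p) ((yon S).map v)).2 ?_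
  exact (repWith_diagonal_yon_map_iff _ v).2 (inferInstanceAs (IsAffineHom (pullback.diagonal v.left)))

variable [IsAffineHom G.hom] [Flat G.hom] [LocallyOfFinitePresentation G.hom]

/-- A functor to a scheme with affine diagonal has affine diagonal. -/
theorem repWith_affine_diag_quot (hX : IsAffineHom (pullback.diagonal X.hom))
    (hY : IsAffineHom (pullback.diagonal Y.hom))
    (ρ : AlgSt.QuotSt Scheme.fppfPrecoverage G aX ⥤ᵇ AlgSt.ofSch Y) :
    RepByAlgSpWith (RepWith (S := S) @IsAffineHom) (FibCat.diag ρ) := by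
  have hQ := QuotEtale.isAlgStack_fppf (G := G) (X := X) (aX := aX)
  have hd : RepByAlgSpWith (RepWith (S := S) @IsAffineHom)
      (FibCat.diag (FibCat.toSelf (AlgSt.QuotSt Scheme.fppfPrecoverage G aX))) :=
    repWith_isAffineMor_iff.1 (QuotEtale.repWith_affine_diag hQ.diag hX)
  have hg : RepByAlgSpWith (RepWith (S := S) @IsAffineHom) (FibCat.diag (FibCat.toSelf (AlgSt.ofSch Y))) :=
    QuotEtale.repWith_affine_diag_toSelf hY
  have hfg : RepByAlgSpWith (RepWith (S := S) @IsAffineHom)
      (FibCat.diag (BasedFunctor.comp ρ (FibCat.toSelf (AlgSt.ofSch Y)))) := by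
    rw [comp_toSelf]; exact hd
  have hf := hQ.isStack.1
  have hY' : FibCat.IsFibGrpd (AlgSt.ofSch Y).p := (isAlgStack_ofSp (spOf Y)).isStack.1
  exact repWith_cancel_rep hf (isFibGrpd_fp hf hf hY' ρ ρ) (isFibGrpd_fp hf hf isFibGrpd_selfOver _ _)
    (FibCat.diag ρ) (cmpSelf ρ (FibCat.toSelf (AlgSt.ofSch Y)))
    (repWith_congr _ (diagCmpIso ρ _).symm hfg)
    (repWith_affine_diag_of_affine (repWith_cmpSelf ρ _ hg))

/-- A functor to a scheme with affine diagonal is quasi-separated. -/
theorem isQuasiSeparatedMor_quot (hX : IsAffineHom (pullback.diagonal X.hom))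
    (hY : IsAffineHom (pullback.diagonal Y.hom))
    (ρ : AlgSt.QuotSt Scheme.fppfPrecoverage G aX ⥤ᵇ AlgSt.ofSch Y) : AlgSt.IsQuasiSeparatedMor ρ :=
  repWith_mono (repWith_affine_diag_quot hX hY ρ) fun _ U a hA ha =>
    ⟨(isQuasiCompactMor_iff_repWith hA (IsAlgSpace.yon_obj U) ha.1).2 (AlgSpLib.repWith_mono (fun _ _ r hr => by
        haveI : IsAffineHom r := hr
        infer_instance) ha),
      (isQuasiSeparatedMor_iff_repWith hA (IsAlgSpace.yon_obj U) ha.1).2 (AlgSpLib.repWith_mono (fun _ _ r hr => by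
        haveI : IsAffineHom r := hr
        infer_instance) ha)⟩

/-- A functor from the quotient of a quasi-compact scheme to a scheme with affine diagonal is quasi-compact. -/
theorem isQuasiCompactMor_quot [QuasiSeparatedSpace S] [CompactSpace ↥X.left]
    (hY : IsAffineHom (pullback.diagonal Y.hom))
    (ρ : AlgSt.QuotSt Scheme.fppfPrecoverage G aX ⥤ᵇ AlgSt.ofSch Y) :
    AlgSt.IsQuasiCompactMor Scheme.fppfPrecoverage ρ := by
  have hQ := QuotEtale.isAlgStack_fppf (G := G) (X := X) (aX := aX)
  have hB : AlgSt.IsAlgStack Scheme.fppfPrecoverage (AlgSt.ofSch Y) := isAlgStack_ofSp (spOf Y)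
  have hT := isAlgStack_overCat X
  refine qcMor_of_surjective hT hQ hB (Iso.refl (BasedFunctor.comp (Quot.qX (aX := aX)) ρ))
    (isSurjective_of_repWith hT.isStack.1 hQ.isStack.1 Quot.repWith_qX_surjective) ?_
  refine isQuasiCompactMor_of_comp hT hB isAlgStack_self (g := FibCat.toSelf (AlgSt.ofSch Y)) ?_
    (repWith_mono (QuotEtale.repWith_affine_diag_toSelf hY) fun _ U a hA ha =>
      (isQuasiCompactMor_iff_repWith hA (IsAlgSpace.yon_obj U) ha.1).2 (AlgSpLib.repWith_mono (fun _ _ r hr => by
        haveI : IsAffineHom r := hr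
        infer_instance) ha))
  rw [comp_toSelf]
  exact isQuasiCompactMor_toSelf_overCat X

end Groth.Agent.HopfSt
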