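import Mathlib
import Groth.Agent.HopfSt.Direct

/-!
# The unit of the quotient stack of an affine scheme over the spectrum of the invariants
-/

universe u

open CategoryTheory CategoryTheory.Limits MonoidalCategory CartesianMonoidalCategory AlgebraicGeometry Opposite
open scoped TensorProduct MonObj

set_option autoImplicit false
set_option backward.isDefEq.respectTransparency false
set_option backward.isDefEq.respectTransparency.types false
set_option linter.style.haveILetI false
set_option linter.unusedSectionVars false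

noncomputable section

namespace Groth.Agent.HopfSt

open Groth.Agent.RelGen Groth.Agent.AlgStLib Groth.Agent.QC Groth.Agent.QDescent

variable {R A B : Type u} [CommRing R] [CommRing A] [HopfAlgebra R A] [CommRing B] [Algebra R B]
  [HopfRep.Comod R A B] [GLin.IsCoactAlg R A B]

theorem ev_pair_id (z : B ⊗[R] A) : ev (pair (inlPt R A B) (inrPt R A B)) z = ev (𝟙 _) z := by
  induction z using TensorProduct.induction_on with
  | zero => rw [map_zero, map_zero]
  | add z z' hz hz' => rw [map_add, map_add, hz, hz']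
  | tmul b a =>
    have e₁ : ev (inlPt R A B) b = ev (𝟙 _) (b ⊗ₜ[R] (1 : A)) :=
      (congrArg (fun k => ev k b) (Category.id_comp (inlPt R A B)).symm).trans (ev_pt (𝟙 _) _ b)
    have e₂ : ev (inrPt R A B) a = ev (𝟙 _) ((1 : B) ⊗ₜ[R] a) :=
      (congrArg (fun k => ev k a) (Category.id_comp (inrPt R A B)).symm).trans (ev_pt (𝟙 _) _ a)
    rw [ev_pair, e₁, e₂, ← map_mul, Algebra.TensorProduct.tmul_mul_tmul, mul_one, one_mul]

theorem ev_id_bijective {K : Type u} [CommRing K] [Algebra R K] :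
    Function.Bijective (ev (𝟙 (CoactBr.sp R K))) := by
  have e : (ev (𝟙 (CoactBr.sp R K)) : K → _) = (Scheme.ΓSpecIso (CommRingCat.of K)).inv.hom :=
    funext fun b => ev_id b
  rw [e]
  exact ConcreteCategory.bijective_of_isIso (Scheme.ΓSpecIso (CommRingCat.of K)).inv

theorem trT_OQ {x' x : (Qst R A B).obj} (c : x' ⟶ x) (s : Γ(StMod.sch (Qst R A B) x, ⊤)) :
    trT (StMod.OQ (Qst R A B)).obj c s = (StMod.bmap (Qst R A B) c).appTop.hom s :=
  (trT_eq_map (StMod.OQ (Qst R A B)).obj c s).trans (StMod.O_mapTop (Qst R A B) c s)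

/-- The invariants are the functions pulling back equally along the two morphisms to the standard chart. -/
theorem trT_ev_eq_iff (b : B) :
    trT (StMod.OQ (Qst R A B)).obj (actMor R A B) (ev (𝟙 (CoactBr.sp R B)) b) =
        trT (StMod.OQ (Qst R A B)).obj (projMor R A B) (ev (𝟙 (CoactBr.sp R B)) b) ↔
      b ∈ GLin.invariants R A B := by
  rw [trT_OQ, trT_OQ]
  have e1 : (StMod.bmap (Qst R A B) (actMor R A B)).appTop.hom (ev (𝟙 (CoactBr.sp R B)) b) =
      ev (𝟙 _) (HopfRep.Comod.coact (k := R) (A := A) b) := by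
    refine Eq.trans ?_ (ev_pair_id _)
    refine Eq.trans ?_ (ev_dot (inlPt R A B) (inrPt R A B) b)
    exact (ev_comp (dot (inlPt R A B) (inrPt R A B)) (𝟙 _) b).symm.trans (congrArg (fun k => ev k b) (Category.comp_id _))
  have e2 : (StMod.bmap (Qst R A B) (projMor R A B)).appTop.hom (ev (𝟙 (CoactBr.sp R B)) b) =
      ev (𝟙 _) (b ⊗ₜ[R] (1 : A)) := by
    refine (ev_comp (inlPt R A B) (𝟙 _) b).symm.trans ?_
    exact (congrArg (fun k => ev k b) ((Category.comp_id _).trans (Category.id_comp _).symm)).trans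
      (ev_pt (𝟙 _) _ b)
  refine ⟨fun h => ev_id_bijective.1 (e1.symm.trans (h.trans e2)), fun h => e1.trans ((congrArg _ h).trans e2.symm)⟩

theorem baseHom_of_eq {Y : Over (Spec (CommRingCat.of R))} (π : Qst R A B ⥤ᵇ AlgSt.ofSch Y)
    (ξ : (Qst R A B).obj) (x : (Qst R A B).p.obj ξ ⟶ Y)
    (h : π.obj ξ = ⟨(Qst R A B).p.obj ξ, ⟨x⟩⟩) (α : π.obj ξ ⟶ idObj Y) : StMod.baseOver π ξ α = x := by
  show eqToHom (π.w_obj ξ).symm ≫ α.hom = x
  rw [eq_toIdObj α]
  show eqToHom (π.w_obj ξ).symm ≫ (π.obj ξ).sec.down = x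
  have key : ∀ (w : (AlgSt.ofSch Y).obj) (e : (Qst R A B).p.obj ξ = w.base),
      w = ⟨(Qst R A B).p.obj ξ, ⟨x⟩⟩ → eqToHom e ≫ w.sec.down = x := by
    intro w e hw
    subst hw
    exact Category.id_comp x
  exact key _ _ h

variable (ρ : Qst R A B ⥤ᵇ AlgSt.ofSch (CoactBr.sp R ↥(GLin.invariants R A B)))
  (hρ : BasedFunctor.comp (AlgSt.quotMap Scheme.fppfPrecoverage (CoactBr.sp R A) (CoactBr.action R A B)) ρ =
    AlgSt.ofSpMap ((AlgSp.yon (Spec (CommRingCat.of R))).map (CoactBr.pt (GLin.invariants R A B).val)))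

include hρ in
/-- The pullback of a function on the spectrum of the invariants to the standard chart. -/
theorem unitSect_x0 (c : GLin.invariants R A B) (α : ρ.obj (x0 R A B) ⟶ idObj (CoactBr.sp R ↥(GLin.invariants R A B))) :
    (StMod.unitSect ρ (idObj _) (ev (𝟙 (CoactBr.sp R ↥(GLin.invariants R A B))) c)).1 (x0 R A B) α =
      ev (𝟙 (CoactBr.sp R B)) c.1 := by
  have h : ρ.obj (x0 R A B) =
      ⟨CoactBr.sp R B, ⟨𝟙 (CoactBr.sp R B) ≫ CoactBr.pt (GLin.invariants R A B).val⟩⟩ :=
    congrArg (fun F => F.obj (qpt (CoactBr.sp R B) (𝟙 (CoactBr.sp R B)))) hρ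
  show (StMod.baseOver ρ (x0 R A B) α).left.appTop.hom _ = _
  rw [baseHom_of_eq ρ (x0 R A B) _ h α]
  exact (ev_comp _ (𝟙 _) c).symm.trans
    ((congrArg (fun k => ev k c) (Category.comp_id _)).trans (ev_pt (𝟙 _) _ c))

variable [Module.Flat R A] [Algebra.FinitePresentation R A]

/-- Sections over the scheme below are determined by their value on the standard chart. -/
theorem relSect_ext_x0 {F : StMod.QCoh (Qst R A B)} {Y : Over (Spec (CommRingCat.of R))}
    (π : Qst R A B ⥤ᵇ AlgSt.ofSch Y) {u t : StMod.Mod.RelSect π F.obj (idObj Y)}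
    (h : u.1 (x0 R A B) (toIdObj _) = t.1 (x0 R A B) (toIdObj _)) : u = t := by
  refine StMod.Mod.RelSect.ext _ _ _ fun ξ α => RelGen.top_ext F fun p => ?_
  obtain ⟨x', c, -, hc, ⟨d⟩⟩ := exists_hit_x0 ξ p
  refine ⟨x', c, hc, ?_⟩
  rw [trT_relSect π u c α (toIdObj _), trT_relSect π t c α (toIdObj _),
    ← trT_relSect π u d (toIdObj _) (toIdObj _), ← trT_relSect π t d (toIdObj _) (toIdObj _), h]

include hρ in
/-- The functions on the spectrum of the invariants are the functions on the quotient stack. -/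
theorem unitSect_idObj_bijective :
    Function.Bijective (StMod.unitSect ρ (idObj (CoactBr.sp R ↥(GLin.invariants R A B)))) := by
  let α₀ := toIdObj (ρ.obj (x0 R A B))
  refine ⟨fun r r' h => ?_, fun t => ?_⟩
  · obtain ⟨c, rfl⟩ := ev_id_bijective.2 r
    obtain ⟨c', rfl⟩ := ev_id_bijective.2 r'
    have h1 := congrArg (fun k : StMod.Mod.RelSect ρ (StMod.O _) _ => k.1 (x0 R A B) α₀) h
    simp only at h1
    rw [unitSect_x0 ρ hρ, unitSect_x0 ρ hρ] at h1
    rw [Subtype.ext (ev_id_bijective.1 h1)]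
  · obtain ⟨b, hb⟩ := ev_id_bijective.2 (t.1 (x0 R A B) α₀)
    have hinv : b ∈ GLin.invariants R A B := (trT_ev_eq_iff b).1 (by
      rw [hb]
      exact (trT_relSect (F := (StMod.OQ (Qst R A B)).obj) ρ t (actMor R A B) α₀ (toIdObj _)).trans
        (trT_relSect (F := (StMod.OQ (Qst R A B)).obj) ρ t (projMor R A B) α₀ (toIdObj _)).symm)
    exact ⟨ev (𝟙 _) ⟨b, hinv⟩,
      relSect_ext_x0 (F := StMod.OQ (Qst R A B)) ρ ((unitSect_x0 ρ hρ ⟨b, hinv⟩ α₀).trans hb)⟩

end Groth.Agent.HopfSt
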